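import Cfsg.Agent.H157.Ab.Rows
import Cfsg.Agent.H400.LieLocal
import Cfsg.Agent.S1062
import Cfsg.Agent.S1063
import Cfsg.Agent.S1064
import Cfsg.Agent.S1065
import Cfsg.Agent.S1066
import Cfsg.Agent.S1067
import Cfsg.Agent.H994.KE.Base_m3
import Cfsg.Agent.H316.U6Norm_m3
import Cfsg.Agent.S1092
import Cfsg.Agent.S1093
import Mathlib
import Cfsg.Agent.H197.Ab.TorLift
import Cfsg.Agent.H720.RowsNeg_m3
import Cfsg.Agent.H378.SmallTor_m3
import Cfsg.Agent.H795.SetTor_m3
import Cfsg.Agent.Lib.CoprimeAbelian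
import Cfsg.Agent.Lib.ThompsonPQ
import Cfsg.Agent.Lib.FrattiniPGroup
import Cfsg.Agent.Lib.Cores
import Cfsg.Agent.BpLieP.Untw_m3
import Cfsg.Agent.S0093
import Cfsg.Agent.S0121
import Cfsg.Agent.FastGrp
import Cfsg.Agent.Prune
set_option linter.all false
prune_inst 0x7ff0fcfbafa8a9dfffff7e3ff6d9cffc31808fffa6fff94bbfe023ff0fdf030209c56b8d0de080fe1f26c21410b87813fb7eceffea6bdc7ffffd57b41ffbee1fe5ffb508519488340e6c4ff693f15f0e6f3fddffffffffffffffffffffffffbeffbfefffffff
open scoped Cfsg.Agent.FastGrp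

-- part: H928/AbNum
section
/-!
# Abelian subgroups of exceptional groups: the numerics (helper928)

The rows `F₄`, `E₆`, `E₇`, `E₈`, `²E₆`, `³D₄` of S2501 from the mixture lemma `X1`, the bounds `PB..` for the abelian
`p`-subgroups and the bounds `SB..` for the abelian `p'`-subgroups.
-/

set_option autoImplicit false

namespace Cfsg.Agent.H928.AbNum

open Cfsg Cfsg.Agent.H157.Ab

/-! ### the inequality -/

/-- **The numerical criterion.** -/
theorem key {A G q g c l E M m v w : ℕ} (hm : 0 < m) (hq : m ≤ q) (hG : q ^ M ≤ g * G)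
    (hA : A ^ v ≤ q ^ E * (c * (q + 1) ^ l) ^ w) (hle : 3 * E + 3 * w * l ≤ v * M)
    (hnum : g ^ v * c ^ (3 * w) * (m + 1) ^ (3 * w * l) < m ^ (3 * w * l) * m ^ (v * M - (3 * E + 3 * w * l))) :
    A ^ 3 < G := by
  by_contra hcon
  have hcon : G ≤ A ^ 3 := not_lt.1 hcon
  have hq0 : 0 < q := lt_of_lt_of_le hm hq
  have h1 : q ^ (v * M) ≤ g ^ v * (q ^ (3 * E) * (c ^ (3 * w) * (q + 1) ^ (3 * w * l))) := by
    calc q ^ (v * M) = (q ^ M) ^ v := by rw [← pow_mul, mul_comm]
      _ ≤ (g * G) ^ v := Nat.pow_le_pow_left hG v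
      _ ≤ (g * A ^ 3) ^ v := Nat.pow_le_pow_left (Nat.mul_le_mul_left g hcon) v
      _ = g ^ v * (A ^ v) ^ 3 := by rw [mul_pow, ← pow_mul, ← pow_mul, mul_comm 3 v]
      _ ≤ g ^ v * (q ^ E * (c * (q + 1) ^ l) ^ w) ^ 3 := Nat.mul_le_mul_left _ (Nat.pow_le_pow_left hA 3)
      _ = g ^ v * (q ^ (3 * E) * (c ^ (3 * w) * (q + 1) ^ (3 * w * l))) := by
          congr 1
          rw [mul_pow, mul_pow, mul_pow, ← pow_mul, ← pow_mul, ← pow_mul, ← pow_mul, mul_comm E 3, mul_comm w 3,
            mul_comm l (3 * w)]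
  have h2 : (m * (q + 1)) ^ (3 * w * l) ≤ ((m + 1) * q) ^ (3 * w * l) := by
    apply Nat.pow_le_pow_left
    linarith only [hq]
  have h3 : m ^ (3 * w * l) * q ^ (v * M) ≤
      g ^ v * c ^ (3 * w) * (m + 1) ^ (3 * w * l) * q ^ (3 * E + 3 * w * l) := by
    calc m ^ (3 * w * l) * q ^ (v * M)
        ≤ m ^ (3 * w * l) * (g ^ v * (q ^ (3 * E) * (c ^ (3 * w) * (q + 1) ^ (3 * w * l)))) :=
          Nat.mul_le_mul_left _ h1
      _ = g ^ v * c ^ (3 * w) * q ^ (3 * E) * (m * (q + 1)) ^ (3 * w * l) := by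
          rw [mul_pow]; ring
      _ ≤ g ^ v * c ^ (3 * w) * q ^ (3 * E) * ((m + 1) * q) ^ (3 * w * l) := Nat.mul_le_mul_left _ h2
      _ = g ^ v * c ^ (3 * w) * (m + 1) ^ (3 * w * l) * q ^ (3 * E + 3 * w * l) := by
          rw [mul_pow, pow_add]; ring
  have h4 : q ^ (v * M) = q ^ (v * M - (3 * E + 3 * w * l)) * q ^ (3 * E + 3 * w * l) := by
    rw [← pow_add, Nat.sub_add_cancel hle]
  rw [h4, ← mul_assoc] at h3
  have h5 := Nat.le_of_mul_le_mul_right h3 (pow_pos hq0 _)
  have h6 : m ^ (3 * w * l) * m ^ (v * M - (3 * E + 3 * w * l)) ≤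
      m ^ (3 * w * l) * q ^ (v * M - (3 * E + 3 * w * l)) :=
    Nat.mul_le_mul_left _ (Nat.pow_le_pow_left hq _)
  omega

/-- the criterion for explicit numbers -/
theorem key0 {A G B v : ℕ} (hA : A ^ v ≤ B) (hnum : B ^ 3 < G ^ v) : A ^ 3 < G := by
  by_contra hcon
  have hcon : G ≤ A ^ 3 := not_lt.1 hcon
  have h1 : G ^ v ≤ B ^ 3 :=
    calc G ^ v ≤ (A ^ 3) ^ v := Nat.pow_le_pow_left hcon v
      _ = (A ^ v) ^ 3 := by rw [← pow_mul, ← pow_mul, mul_comm]
      _ ≤ B ^ 3 := Nat.pow_le_pow_left hA 3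
  omega

theorem cond_two (f : ℕ) (hf : 1 ≤ f) : (2 ^ f + 1) ^ 5 ≤ 2 ^ (f * 8) := by
  rw [pow_mul]
  rcases Nat.eq_or_lt_of_le hf with rfl | h
  · norm_num
  · have hx : 4 ≤ 2 ^ f := by
      calc 4 = 2 ^ 2 := by norm_num
        _ ≤ 2 ^ f := Nat.pow_le_pow_right (by norm_num) h
    generalize 2 ^ f = x at hx
    have h1 : (4 * (x + 1)) ^ 5 ≤ (5 * x) ^ 5 := Nat.pow_le_pow_left (by omega) 5
    have h2 : 4 ^ 5 * (x + 1) ^ 5 ≤ 5 ^ 5 * x ^ 5 := by rw [← mul_pow, ← mul_pow]; exact h1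
    have h3 : 4 * x ^ 5 ≤ x ^ 6 := by
      rw [pow_succ x 5, mul_comm 4]
      exact Nat.mul_le_mul_left _ hx
    have h4 : x ^ 6 ≤ x ^ 8 := Nat.pow_le_pow_right (by omega) (by norm_num)
    nlinarith only [h1, h3, h4]

theorem cond_odd {p : ℕ} (hp : 3 ≤ p) (f : ℕ) (hf : 1 ≤ f) : (p ^ f + 1) ^ 3 ≤ p ^ (f * 4) := by
  rw [pow_mul]
  have hx : 3 ≤ p ^ f := by
    calc 3 ≤ p := hp
      _ = p ^ 1 := (pow_one p).symm
      _ ≤ p ^ f := Nat.pow_le_pow_right (by omega) hf
  generalize p ^ f = x at hx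
  have h1 : (3 * (x + 1)) ^ 3 ≤ (4 * x) ^ 3 := Nat.pow_le_pow_left (by omega) 3
  have h2 : 3 ^ 3 * (x + 1) ^ 3 ≤ 4 ^ 3 * x ^ 3 := by rw [← mul_pow, ← mul_pow]; exact h1
  have h3 : 3 * x ^ 3 ≤ x ^ 4 := by
    rw [pow_succ x 3, mul_comm 3]
    exact Nat.mul_le_mul_left _ hx
  nlinarith only [hx, h3]

/-! ### the three cases for an abelian subgroup -/

section Cases

variable {G : Type} [Group G] [Finite G] {p : ℕ} [Fact p.Prime]

/-- `p = 2` -/
theorem cases_two (h1 : X1) (hL : BpLieP.Big.LocChar 2 G) {a s : ℕ} (hP : PB 2 G a) (hS : SB 2 G s)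
    {A : Subgroup G} (hA : IsMulCommutative A) :
    Nat.card A ^ 1 ≤ s ^ 1 ∨ Nat.card A ^ 8 ≤ a ^ 8 * s ^ 3 := by
  have : Fact (Nat.Prime 2) := ⟨Nat.prime_two⟩
  by_cases h : 2 ∣ Nat.card A
  · right
    exact h1 G 2 hL 5 8 (by norm_num) (fun f hf => cond_two f hf) a s hP hS A hA h
  · left
    rw [pow_one, pow_one]
    exact hS A hA h

/-- `p` odd -/
theorem cases_odd (h1 : X1) (hL : BpLieP.Big.LocChar p G) (hp : 3 ≤ p) {a s : ℕ} (hP : PB p G a) (hS : SB p G s)
    {A : Subgroup G} (hA : IsMulCommutative A) :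
    Nat.card A ^ 1 ≤ s ^ 1 ∨ Nat.card A ^ 4 ≤ a ^ 4 * s ^ 1 := by
  by_cases h : p ∣ Nat.card A
  · right
    exact h1 G p hL 3 4 (by norm_num) (fun f hf => cond_odd hp f hf) a s hP hS A hA h
  · left
    rw [pow_one, pow_one]
    exact hS A hA h

end Cases

theorem cop_le (p n : ℕ) : cop p n ≤ n := Nat.div_le_self _ _

theorem pow_pred_le {q d : ℕ} (hq : 2 ≤ q) (hd : d ≠ 0) : q ^ (d - 1) ≤ q ^ d - 1 := by
  obtain ⟨k, rfl⟩ := Nat.exists_eq_succ_of_ne_zero hd
  have h1 : 1 ≤ q ^ k := Nat.one_le_pow _ _ (by omega)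
  have h2 : q ^ (k + 1) = q ^ k * q := pow_succ _ _
  have h3 : q ^ k * 2 ≤ q ^ k * q := Nat.mul_le_mul_left _ hq
  simp only [Nat.succ_eq_add_one, Nat.add_sub_cancel]
  omega

/-! ### the local characteristic -/

theorem locChar_exc {G : Type} [Group G] [Finite G] {p : ℕ} [Fact p.Prime] (h : Cfsg.IsExceptionalChevChar p G) :
    BpLieP.Big.LocChar p G := by
  have hl : Cfsg.IsLieTypeChar p G := Or.inr (Or.inr (Or.inr (Or.inr (Or.inr (Or.inr (Or.inl h))))))
  have hs : IsSimpleGroup G := H400.LieSimple.isSimple_of_lie hl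
  exact H400.LieLocal.locChar_of_filt (KFacts.RgdLieCharP.hasFilt_of_lie
    (Or.inr (Or.inr (Or.inr (Or.inr (Or.inr (Or.inr (Or.inl h))))))))

theorem locChar_tw {G : Type} [Group G] [Finite G] {p : ℕ} [Fact p.Prime] (h : Cfsg.IsTwistedE6D4Char p G) :
    BpLieP.Big.LocChar p G := by
  have hl : Cfsg.IsLieTypeChar p G := Or.inr (Or.inr (Or.inr (Or.inr (Or.inr (Or.inr (Or.inr (Or.inl h)))))))
  have hs : IsSimpleGroup G := H400.LieSimple.isSimple_of_lie hl
  exact H400.LieLocal.locChar_of_filt (KFacts.RgdLieCharP.hasFilt_of_lie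
    (Or.inr (Or.inr (Or.inr (Or.inr (Or.inr (Or.inr (Or.inr h))))))))

theorem mul_le_mul_of {a b c d : ℕ} (h1 : a ≤ b) (h2 : c ≤ d) : a * c ≤ b * d := Nat.mul_le_mul h1 h2

/-! ### the general row -/

/-- **The row.** `a` the bound for the abelian `p`-subgroups (`a² ≤ q ^ b`), `q ^ M ≤ g |G|`. -/
theorem row {G : Type} [Group G] [Finite G] {p q : ℕ} [hp : Fact p.Prime] (h1 : X1)
    (hL : BpLieP.Big.LocChar p G) {a : ℕ} (hP : PB p G a) {w l M g b : ℕ} (ha : a ^ 2 ≤ q ^ b)
    (hS : SB p G (cop p w * (q + 1) ^ l)) (hG : q ^ M ≤ g * Nat.card G) (c m2 m1 : ℕ) (hc : cop 2 w = c)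
    (hm2 : 0 < m2) (hm1 : 0 < m1) (hs2 : p = 2 → q < m2 → Ab3 G) (hs1 : p ≠ 2 → q < m1 → Ab3 G)
    (n0 : 3 * l ≤ M) (n2 : 3 * (b * 4) + 3 * 3 * l ≤ 8 * M) (n1 : 3 * (b * 2) + 3 * 1 * l ≤ 4 * M)
    (num2 : g ^ 1 * c ^ (3 * 1) * (m2 + 1) ^ (3 * 1 * l) < m2 ^ (3 * 1 * l) * m2 ^ (1 * M - (3 * 0 + 3 * 1 * l)))
    (num1 : g ^ 1 * w ^ (3 * 1) * (m1 + 1) ^ (3 * 1 * l) < m1 ^ (3 * 1 * l) * m1 ^ (1 * M - (3 * 0 + 3 * 1 * l)))
    (nux2 : g ^ 8 * c ^ (3 * 3) * (m2 + 1) ^ (3 * 3 * l) <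
      m2 ^ (3 * 3 * l) * m2 ^ (8 * M - (3 * (b * 4) + 3 * 3 * l)))
    (nux1 : g ^ 4 * w ^ (3 * 1) * (m1 + 1) ^ (3 * 1 * l) <
      m1 ^ (3 * 1 * l) * m1 ^ (4 * M - (3 * (b * 2) + 3 * 1 * l))) : Ab3 G := by
  by_cases hp2 : p = 2
  · by_cases h4 : q < m2
    · exact hs2 hp2 h4
    · have h4 : m2 ≤ q := not_lt.1 h4
      subst hp2
      rw [hc] at hS
      intro A hA
      rcases cases_two h1 hL hP hS hA with h | h
      · have h' : Nat.card A ^ 1 ≤ q ^ 0 * (c * (q + 1) ^ l) ^ 1 := by rw [pow_zero, one_mul]; exact h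
        exact key hm2 h4 hG h' (by omega) num2
      · have h5 : a ^ 8 ≤ q ^ (b * 4) := by
          calc a ^ 8 = (a ^ 2) ^ 4 := by rw [← pow_mul]
            _ ≤ (q ^ b) ^ 4 := Nat.pow_le_pow_left ha 4
            _ = q ^ (b * 4) := by rw [← pow_mul]
        exact key hm2 h4 hG (h.trans (Nat.mul_le_mul_right _ h5)) n2 nux2
  · by_cases h4 : q < m1
    · exact hs1 hp2 h4
    · have h4 : m1 ≤ q := not_lt.1 h4
      have hp3 : 3 ≤ p := by
        have := hp.out.two_le
        omega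
      have hS2 : SB p G (w * (q + 1) ^ l) := fun B hB hpB =>
        (hS B hB hpB).trans (Nat.mul_le_mul_right _ (cop_le _ _))
      intro A hA
      rcases cases_odd h1 hL hp3 hP hS2 hA with h | h
      · have h' : Nat.card A ^ 1 ≤ q ^ 0 * (w * (q + 1) ^ l) ^ 1 := by rw [pow_zero, one_mul]; exact h
        exact key hm1 h4 hG h' (by omega) num1
      · have h5 : a ^ 4 ≤ q ^ (b * 2) := by
          calc a ^ 4 = (a ^ 2) ^ 2 := by rw [← pow_mul]
            _ ≤ (q ^ b) ^ 2 := Nat.pow_le_pow_left ha 2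
            _ = q ^ (b * 2) := by rw [← pow_mul]
        exact key hm1 h4 hG (h.trans (Nat.mul_le_mul_right _ h5)) n1 nux1

/-- small `q` for `p = 2` -/
theorem small_two {G : Type} [Group G] [Finite G] (h1 : X1) (hL : BpLieP.Big.LocChar 2 G) {a s N : ℕ}
    (hP : PB 2 G a) (hS : SB 2 G s) (hG : Nat.card G = N) (n1 : (s ^ 1) ^ 3 < N ^ 1)
    (n2 : (a ^ 8 * s ^ 3) ^ 3 < N ^ 8) : Ab3 G := by
  intro A hA
  rw [hG]
  rcases cases_two h1 hL hP hS hA with h | h
  · exact key0 h n1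
  · exact key0 h n2

/-- small `q` for `p` odd -/
theorem small_odd {G : Type} [Group G] [Finite G] {p : ℕ} [Fact p.Prime] (hp : 3 ≤ p) (h1 : X1)
    (hL : BpLieP.Big.LocChar p G) {a s N : ℕ}
    (hP : PB p G a) (hS : SB p G s) (hG : Nat.card G = N) (n1 : (s ^ 1) ^ 3 < N ^ 1)
    (n2 : (a ^ 4 * s ^ 1) ^ 3 < N ^ 4) : Ab3 G := by
  intro A hA
  rw [hG]
  rcases cases_odd h1 hL hp hP hS hA with h | h
  · exact key0 h n1
  · exact key0 h n2

theorem eq_two_of {p n q : ℕ} (hn : 0 < n) (hq : q = p ^ n) (h2 : p = 2) (h : q < 4) : q = 2 := by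
  subst h2
  rcases Nat.lt_or_ge 1 n with h5 | h5
  · exfalso
    have : 2 ^ 2 ≤ 2 ^ n := Nat.pow_le_pow_right (by norm_num) h5
    omega
  · have : n = 1 := by omega
    rw [hq, this, pow_one]

theorem not_lt_three {p n q : ℕ} (hp : p.Prime) (hn : 0 < n) (hq : q = p ^ n) (h2 : p ≠ 2) : ¬ q < 3 := by
  have := hp.two_le
  have h6 : p ^ 1 ≤ p ^ n := Nat.pow_le_pow_right (by omega) hn
  rw [pow_one] at h6
  omega

theorem eq_three_of {p n q : ℕ} (hp : p.Prime) (hn : 0 < n) (hq : q = p ^ n) (h2 : p ≠ 2) (h : q < 5) :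
    p = 3 ∧ q = 3 := by
  have h1 := not_lt_three hp hn hq h2
  have h3 : q ≠ 4 := by
    intro h4
    have h5 : Even (p ^ n) := by rw [← hq, h4]; decide
    have h6 : Even p := (Nat.even_pow.1 h5).1
    exact h2 ((Nat.Prime.even_iff hp).1 h6)
  have h4 : q = 3 := by omega
  have h5 : p ∣ q := by rw [hq]; exact dvd_pow_self p hn.ne'
  rw [h4] at h5
  exact ⟨(Nat.prime_dvd_prime_iff_eq hp Nat.prime_three).1 h5, h4⟩

/-! ### `F₄` -/

theorem card_F4 {F : Type} [Field F] [Fintype F] (hq : 2 ≤ Fintype.card F) :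
    Fintype.card F ^ 48 ≤ 1 * Nat.card ↥(Lie.chevF4.group F) := by
  have h1 := S1062.result (F := F) rfl
  rw [one_mul, h1]
  generalize Fintype.card F = q at hq
  calc q ^ 48 = q ^ 24 * q ^ (2 - 1) * q ^ (6 - 1) * q ^ (8 - 1) * q ^ (12 - 1) := by ring
    _ ≤ _ := by
      refine mul_le_mul_of (mul_le_mul_of (mul_le_mul_of (mul_le_mul_of le_rfl ?_) ?_) ?_) ?_ <;>
      exact pow_pred_le hq (by norm_num)

theorem f4_of (h1 : X1) (hP : PBF4) (hS : SBCh Lie.chevF4 4 1152) :
    ∀ (F : Type) [Field F] [Fintype F], Ab3 (Lie.chevF4.group F) := by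
  intro F _ _
  obtain ⟨p, hchar⟩ := CharP.exists F
  have hp : Fact p.Prime := ⟨CharP.char_is_prime F p⟩
  have hL : BpLieP.Big.LocChar p ↥(Lie.chevF4.group F) :=
    locChar_exc ⟨F, inferInstance, inferInstance, hchar, Or.inr (Or.inl ⟨MulEquiv.refl _⟩)⟩
  obtain ⟨n, -, hn⟩ := FiniteField.card F p
  have hq2 : 2 ≤ Fintype.card F := Fintype.one_lt_card
  have hc : cop 2 1152 = 9 := by decide +kernel
  refine row h1 hL (hP F p) (b := 26) (by rw [← pow_mul]) (hS F p) (card_F4 hq2) 9 4 3 hc (by norm_num)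
    (by norm_num) ?_ ?_ ?_ ?_ ?_ ?_ ?_ ?_ ?_
  · intro h2 h4
    have h5 := eq_two_of n.pos hn h2 h4
    subst h2
    have hP2 := hP F 2
    have hS2 := hS F 2
    rw [h5] at hP2 hS2
    rw [hc] at hS2
    exact small_two h1 hL hP2 hS2 (S1062.result (F := F) h5) (by norm_num) (by norm_num)
  · exact fun h2 h3 => absurd h3 (not_lt_three hp.out n.pos hn h2)
  all_goals norm_num

/-! ### `E₆` -/

theorem card_E6 {F : Type} [Field F] [Fintype F] (hq : 2 ≤ Fintype.card F) :
    Fintype.card F ^ 72 ≤ 3 * Nat.card ↥(Lie.chevE6.group F) := by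
  have h1 := S1063.result (F := F) rfl
  have h2 : Nat.gcd 3 (Fintype.card F - 1) ≤ 3 := Nat.gcd_le_left _ (by norm_num)
  refine le_trans ?_ (Nat.mul_le_mul_right _ h2)
  rw [h1]
  generalize Fintype.card F = q at hq
  calc q ^ 72 = q ^ 36 * q ^ (2 - 1) * q ^ (5 - 1) * q ^ (6 - 1) * q ^ (8 - 1) * q ^ (9 - 1) * q ^ (12 - 1) := by ring
    _ ≤ _ := by
      refine mul_le_mul_of (mul_le_mul_of (mul_le_mul_of (mul_le_mul_of (mul_le_mul_of
        (mul_le_mul_of le_rfl ?_) ?_) ?_) ?_) ?_) ?_ <;>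
      exact pow_pred_le hq (by norm_num)

theorem e6_of (h1 : X1) (hP : PBE6) (hS : SBCh Lie.chevE6 6 51840) :
    ∀ (F : Type) [Field F] [Fintype F], Ab3 (Lie.chevE6.group F) := by
  intro F _ _
  obtain ⟨p, hchar⟩ := CharP.exists F
  have hp : Fact p.Prime := ⟨CharP.char_is_prime F p⟩
  have hL : BpLieP.Big.LocChar p ↥(Lie.chevE6.group F) :=
    locChar_exc ⟨F, inferInstance, inferInstance, hchar, Or.inr (Or.inr (Or.inl ⟨MulEquiv.refl _⟩))⟩
  obtain ⟨n, -, hn⟩ := FiniteField.card F p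
  have hq2 : 2 ≤ Fintype.card F := Fintype.one_lt_card
  have hc : cop 2 51840 = 405 := by decide +kernel
  refine row h1 hL (hP F p) (b := 36) (by rw [← pow_mul]) (hS F p) (card_E6 hq2) 405 4 3 hc (by norm_num)
    (by norm_num) ?_ ?_ ?_ ?_ ?_ ?_ ?_ ?_ ?_
  · intro h2 h4
    have h5 := eq_two_of n.pos hn h2 h4
    subst h2
    have hP2 := hP F 2
    have hS2 := hS F 2
    rw [h5] at hP2 hS2
    rw [hc] at hS2
    have hG := S1063.result (F := F) h5
    rw [show Nat.gcd 3 (2 - 1) = 1 from by norm_num, one_mul] at hG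
    exact small_two h1 hL hP2 hS2 hG (by norm_num) (by norm_num)
  · exact fun h2 h3 => absurd h3 (not_lt_three hp.out n.pos hn h2)
  all_goals norm_num

/-! ### `E₇` -/

theorem card_E7 {F : Type} [Field F] [Fintype F] (hq : 2 ≤ Fintype.card F) :
    Fintype.card F ^ 126 ≤ 2 * Nat.card ↥(Lie.chevE7.group F) := by
  have h1 := S1064.result (F := F) rfl
  have h2 : Nat.gcd 2 (Fintype.card F - 1) ≤ 2 := Nat.gcd_le_left _ (by norm_num)
  refine le_trans ?_ (Nat.mul_le_mul_right _ h2)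
  rw [h1]
  generalize Fintype.card F = q at hq
  calc q ^ 126 = q ^ 63 * q ^ (2 - 1) * q ^ (6 - 1) * q ^ (8 - 1) * q ^ (10 - 1) * q ^ (12 - 1) * q ^ (14 - 1) *
        q ^ (18 - 1) := by ring
    _ ≤ _ := by
      refine mul_le_mul_of (mul_le_mul_of (mul_le_mul_of (mul_le_mul_of (mul_le_mul_of (mul_le_mul_of
        (mul_le_mul_of le_rfl ?_) ?_) ?_) ?_) ?_) ?_) ?_ <;>
      exact pow_pred_le hq (by norm_num)

theorem e7_of (h1 : X1) (hP : PBE7) (hS : SBCh Lie.chevE7 7 2903040) :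
    ∀ (F : Type) [Field F] [Fintype F], Ab3 (Lie.chevE7.group F) := by
  intro F _ _
  obtain ⟨p, hchar⟩ := CharP.exists F
  have hp : Fact p.Prime := ⟨CharP.char_is_prime F p⟩
  have hL : BpLieP.Big.LocChar p ↥(Lie.chevE7.group F) :=
    locChar_exc ⟨F, inferInstance, inferInstance, hchar, Or.inr (Or.inr (Or.inr (Or.inl ⟨MulEquiv.refl _⟩)))⟩
  obtain ⟨n, -, hn⟩ := FiniteField.card F p
  have hq2 : 2 ≤ Fintype.card F := Fintype.one_lt_card
  have hc : cop 2 2903040 = 2835 := by decide +kernel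
  refine row h1 hL (hP F p) (b := 64) (by rw [← pow_mul]) (hS F p) (card_E7 hq2) 2835 2 3 hc (by norm_num)
    (by norm_num) ?_ ?_ ?_ ?_ ?_ ?_ ?_ ?_ ?_
  · exact fun h2 h3 => absurd h3 (by omega)
  · exact fun h2 h3 => absurd h3 (not_lt_three hp.out n.pos hn h2)
  all_goals norm_num

/-! ### `E₈` -/

theorem card_E8 {F : Type} [Field F] [Fintype F] (hq : 2 ≤ Fintype.card F) :
    Fintype.card F ^ 240 ≤ 1 * Nat.card ↥(Lie.chevE8.group F) := by
  have h1 := S1065.result (F := F) rfl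
  rw [one_mul, h1]
  generalize Fintype.card F = q at hq
  calc q ^ 240 = q ^ 120 * q ^ (2 - 1) * q ^ (8 - 1) * q ^ (12 - 1) * q ^ (14 - 1) * q ^ (18 - 1) * q ^ (20 - 1) *
        q ^ (24 - 1) * q ^ (30 - 1) := by ring
    _ ≤ _ := by
      refine mul_le_mul_of (mul_le_mul_of (mul_le_mul_of (mul_le_mul_of (mul_le_mul_of (mul_le_mul_of
        (mul_le_mul_of (mul_le_mul_of le_rfl ?_) ?_) ?_) ?_) ?_) ?_) ?_) ?_ <;>
      exact pow_pred_le hq (by norm_num)

set_option exponentiation.threshold 1000 in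
theorem e8_of (h1 : X1) (hP : PBE8) (hS : SBCh Lie.chevE8 8 696729600) :
    ∀ (F : Type) [Field F] [Fintype F], Ab3 (Lie.chevE8.group F) := by
  intro F _ _
  obtain ⟨p, hchar⟩ := CharP.exists F
  have hp : Fact p.Prime := ⟨CharP.char_is_prime F p⟩
  have hL : BpLieP.Big.LocChar p ↥(Lie.chevE8.group F) :=
    locChar_exc ⟨F, inferInstance, inferInstance, hchar, Or.inr (Or.inr (Or.inr (Or.inr ⟨MulEquiv.refl _⟩)))⟩
  obtain ⟨n, -, hn⟩ := FiniteField.card F p
  have hq2 : 2 ≤ Fintype.card F := Fintype.one_lt_card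
  have hc : cop 2 696729600 = 42525 := by decide +kernel
  refine row h1 hL (hP F p) (b := 120) (by rw [← pow_mul]) (hS F p) (card_E8 hq2) 42525 2 3 hc (by norm_num)
    (by norm_num) ?_ ?_ ?_ ?_ ?_ ?_ ?_ ?_ ?_
  · exact fun h2 h3 => absurd h3 (by omega)
  · exact fun h2 h3 => absurd h3 (not_lt_three hp.out n.pos hn h2)
  all_goals norm_num

/-! ### `²E₆` -/

theorem PB_of_sq {G : Type} [Group G] {p q b : ℕ}
    (h : ∀ A : Subgroup G, IsMulCommutative A → IsPGroup p A → Nat.card A ^ 2 ≤ q ^ b) : PB p G (Nat.sqrt (q ^ b)) := by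
  intro A hA hpA
  rw [Nat.le_sqrt']
  exact h A hA hpA

theorem card_TwE6 {K : Type} [Field K] [Fintype K] {q : ℕ} (hq : IsPrimePow q) (hK : Fintype.card K = q ^ 2) :
    q ^ 74 ≤ 3 * Nat.card ↥(Lie.twistedE6 K q) := by
  have h1 := S1066.result hq hK
  have h2 : Nat.gcd 3 (q + 1) ≤ 3 := Nat.gcd_le_left _ (by norm_num)
  refine le_trans ?_ (Nat.mul_le_mul_right _ h2)
  rw [h1]
  have hq2 : 2 ≤ q := hq.two_le
  calc q ^ 74 = q ^ 36 * q ^ (2 - 1) * q ^ 5 * q ^ (6 - 1) * q ^ (8 - 1) * q ^ 9 * q ^ (12 - 1) := by ring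
    _ ≤ _ := by
      refine mul_le_mul_of (mul_le_mul_of (mul_le_mul_of (mul_le_mul_of (mul_le_mul_of
        (mul_le_mul_of le_rfl ?_) (Nat.le_succ _)) ?_) ?_) (Nat.le_succ _)) ?_ <;>
      exact pow_pred_le hq2 (by norm_num)

/-- the characteristic and `q` -/
theorem exists_pow {K : Type} [Field K] [Fintype K] {q d : ℕ} (hq : IsPrimePow q) (hd : d ≠ 0)
    (hK : Fintype.card K = q ^ d) : ∃ (p n : ℕ), p.Prime ∧ CharP K p ∧ 0 < n ∧ q = p ^ n := by
  obtain ⟨p, n, hp, hn, rfl⟩ := hq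
  have hp' : p.Prime := hp.nat_prime
  refine ⟨p, n, hp', ?_, hn, rfl⟩
  obtain ⟨r, hchar⟩ := CharP.exists K
  have hr : r.Prime := CharP.char_is_prime K r
  have : Fact r.Prime := ⟨hr⟩
  obtain ⟨m, -, hm⟩ := FiniteField.card K r
  have h1 : p ∣ r ^ (m : ℕ) := by
    rw [← hm, hK, ← pow_mul]
    exact dvd_pow_self p (Nat.mul_ne_zero hn.ne' hd)
  have h2 : p = r := (Nat.prime_dvd_prime_iff_eq hp' hr).1 (hp'.dvd_of_dvd_pow h1)
  rwa [h2]

theorem twE6_of (h1 : X1) (hP : PBTwE6) (hS : SBTwE6) :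
    ∀ (K : Type) [Field K] [Fintype K] (q : ℕ), IsPrimePow q → Fintype.card K = q ^ 2 →
      Ab3 (Lie.twistedE6 K q) := by
  intro K _ _ q hq hK
  obtain ⟨p, n, hpp, hchar, hn0, hn⟩ := exists_pow hq two_ne_zero hK
  have hp : Fact p.Prime := ⟨hpp⟩
  have hL : BpLieP.Big.LocChar p ↥(Lie.twistedE6 K q) :=
    locChar_tw ⟨K, inferInstance, inferInstance, hchar, q, hq, Or.inl ⟨hK, ⟨MulEquiv.refl _⟩⟩⟩
  have hc : cop 2 51840 = 405 := by decide +kernel
  refine row h1 hL (PB_of_sq (hP K q hK p)) (b := 37) (Nat.sqrt_le' _) (hS K q hK p) (card_TwE6 hq hK) 405 4 3 hc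
    (by norm_num) (by norm_num) ?_ ?_ ?_ ?_ ?_ ?_ ?_ ?_ ?_
  · intro h2 h4
    have h5 := eq_two_of hn0 hn h2 h4
    subst h2
    subst h5
    have hP2 : PB 2 ↥(Lie.twistedE6 K 2) 370727 := by
      have h6 := PB_of_sq (hP K 2 hK 2)
      have h7 : Nat.sqrt (2 ^ 37) = 370727 := by decide +kernel
      rwa [h7] at h6
    have hS2 := hS K 2 hK 2
    rw [hc] at hS2
    have hG := S1066.result hq hK
    rw [show Nat.gcd 3 (2 + 1) = 3 from by norm_num] at hG
    have hG' : Nat.card ↥(Lie.twistedE6 K 2) =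
        2 ^ 36 * (2 ^ 2 - 1) * (2 ^ 5 + 1) * (2 ^ 6 - 1) * (2 ^ 8 - 1) * (2 ^ 9 + 1) * (2 ^ 12 - 1) / 3 := by
      rw [← hG, Nat.mul_div_cancel_left _ (by norm_num)]
    exact small_two h1 hL hP2 hS2 hG' (by norm_num) (by norm_num)
  · exact fun h2 h3 => absurd h3 (not_lt_three hp.out hn0 hn h2)
  all_goals norm_num

/-! ### `³D₄` -/

theorem card_TwD4 {K : Type} [Field K] [Fintype K] {q : ℕ} (hq : IsPrimePow q) (hK : Fintype.card K = q ^ 3) :
    q ^ 26 ≤ 1 * Nat.card ↥(Lie.twistedD4 K q) := by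
  have h1 := S1067.result hq hK
  rw [one_mul, h1]
  have hq2 : 2 ≤ q := hq.two_le
  calc q ^ 26 = q ^ 12 * q ^ (2 - 1) * q ^ (6 - 1) * q ^ 8 := by ring
    _ ≤ _ := by
      refine mul_le_mul_of (mul_le_mul_of (mul_le_mul_of le_rfl ?_) ?_) (by
        rw [add_assoc]; exact Nat.le_add_right _ _) <;>
      exact pow_pred_le hq2 (by norm_num)

theorem twD4_of (h1 : X1) (hP : PBTwD4) (hS : SBTwD4) :
    ∀ (K : Type) [Field K] [Fintype K] (q : ℕ), IsPrimePow q → Fintype.card K = q ^ 3 →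
      Ab3 (Lie.twistedD4 K q) := by
  intro K _ _ q hq hK
  obtain ⟨p, n, hpp, hchar, hn0, hn⟩ := exists_pow hq three_ne_zero hK
  have hp : Fact p.Prime := ⟨hpp⟩
  have hL : BpLieP.Big.LocChar p ↥(Lie.twistedD4 K q) :=
    locChar_tw ⟨K, inferInstance, inferInstance, hchar, q, hq, Or.inr ⟨hK, ⟨MulEquiv.refl _⟩⟩⟩
  have hc : cop 2 192 = 3 := by decide +kernel
  refine row h1 hL (PB_of_sq (hP K q hK p)) (b := 13) (Nat.sqrt_le' _) (hS K q hK p) (card_TwD4 hq hK) 3 4 5 hc
    (by norm_num) (by norm_num) ?_ ?_ ?_ ?_ ?_ ?_ ?_ ?_ ?_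
  · intro h2 h4
    have h5 := eq_two_of hn0 hn h2 h4
    subst h2
    subst h5
    have hP2 : PB 2 ↥(Lie.twistedD4 K 2) 64 := by
      intro A hA hpA
      have h6 := hP K 2 hK 2 A hA hpA
      obtain ⟨k, hk⟩ := IsPGroup.iff_card.1 hpA
      rw [hk, ← pow_mul] at h6
      have h7 : k * 2 ≤ 13 := (Nat.pow_le_pow_iff_right (by norm_num)).1 h6
      rw [hk]
      calc 2 ^ k ≤ 2 ^ 6 := Nat.pow_le_pow_right (by norm_num) (by omega)
        _ = 64 := by norm_num
    have hS2 := hS K 2 hK 2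
    rw [hc] at hS2
    exact small_two h1 hL hP2 hS2 (S1067.result hq hK) (by norm_num) (by norm_num)
  · intro h2 h3
    obtain ⟨h5, h6⟩ := eq_three_of hpp hn0 hn h2 h3
    subst h5
    subst h6
    have hP2 : PB 3 ↥(Lie.twistedD4 K 3) 1262 := by
      have h6 := PB_of_sq (hP K 3 hK 3)
      have h7 : Nat.sqrt (3 ^ 13) = 1262 := by decide +kernel
      rwa [h7] at h6
    have hS2 := hS K 3 hK 3
    rw [show cop 3 192 = 64 from by decide +kernel] at hS2
    exact small_odd le_rfl h1 hL hP2 hS2 (S1067.result hq hK) (by norm_num) (by norm_num)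
  all_goals norm_num

end Cfsg.Agent.H928.AbNum
end

-- part: H157/Ab/StmtX3
section
/-!
# Abelian subgroups of simple groups: the torus bound (helper157)

* `X3` : an abelian `r'`-group of fixed points of a Frobenius map of a Chevalley group.
-/

set_option autoImplicit false

namespace Cfsg.Agent.H157.Ab

open Cfsg

section X3

open CoxeterSystem Cfsg.Lie Cfsg.Lie.ChevalleyDatum
open Cfsg.Agent.ChevalleyStructure Cfsg.Agent.ChevalleyStructure.Elts Cfsg.Agent.ChevalleyStructure.CoxeterGeom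
  Cfsg.Agent.ChevalleyStructure.CoxeterGeomTypes Cfsg.Agent.ChevalleyStructure.NPerm
open Cfsg.Agent.Tits.Roots Cfsg.Agent.Tits.Core Cfsg.Agent.Nodes Cfsg.Agent.Nodes.Reps Cfsg.Agent.Nodes.BNOf
  Cfsg.Agent.Nodes.RGDChev Cfsg.Agent.Nodes.Bruhat
open Cfsg.Agent.KFacts.RgdField Cfsg.Agent.KFacts.RgdChevCoord Cfsg.Agent.BpExc.TorCent Cfsg.Agent.BpExc.TorChev
open Cfsg.Agent.GpExc.Field Cfsg.Agent.BpExc.Tow Cfsg.Agent.BpExc.TowChev Cfsg.Agent.BpExc.Fr
  Cfsg.Agent.BpExc.LangFr Cfsg.Agent.H795.SetCent Cfsg.Agent.H795.Toral Cfsg.Agent.H795.Reduce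
  Cfsg.Agent.H795.RootConn Cfsg.Agent.H123.ExcZ

/-- **The torus bound**: an abelian `r'`-group of fixed points of a Frobenius map. -/
def X3 : Prop := ∀ (D : ChevalleyDatum) (l : ℕ) (M : CoxeterMatrix (Fin l)) (hp : IsType D l M)
  (k : Type) [Field k] (r : ℕ) [Fact r.Prime] [CharP k r] [IsAlgClosed k], LocFin k →
  ∀ (G : Type) [Group G] [Finite G] (f : G →* ↥(D.group k)), Function.Injective f → ∀ (e : ℕ)
  (σ : MulAut ↥(D.group k)) (g : (Fin l → ℤ) ≃+ (Fin l → ℤ)), 0 < e → IsFrob r e σ →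
  Fr M.toCoxeterSystem hp.isCartan (TT D k) (XX D l k) σ g → (∀ x, σ (f x) = f x) →
  SB r G (cop r (Nat.card M.Group) * (r ^ e + 1) ^ l)

end X3

end Cfsg.Agent.H157.Ab
end

-- part: H316/Ab/X3Inst
section
/-!
# Abelian `r'`-subgroups of the exceptional groups: the instances of the torus bound `X3` (helper316, S2501/S2502)

* `sbch` : `SBCh D l |W|` for the untwisted exceptional types; `sb_G2`, `sb_F4`, `sb_E6`, `sb_E7`, `sb_E8`;
* `sb_twE6`, `sb_twD4`.
-/

set_option autoImplicit false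
set_option linter.unusedSectionVars false

namespace Cfsg.Agent.H316.Ab

open CoxeterSystem Cfsg Cfsg.Lie Cfsg.Lie.ChevalleyDatum
open Cfsg.Agent.Nodes.RGDChev Cfsg.Agent.H316.U6 Cfsg.Agent.H157.Ab Cfsg.Agent.H469.Exc
open Cfsg.Agent.BpExc.TorCent

/-- `X3` for a group with the data `MData` -/
theorem sb_of_mdata (h : X3) {D : ChevalleyDatum} {l : ℕ} {M : CoxeterMatrix (Fin l)} {hp : IsType D l M}
    {r q : ℕ} [Fact r.Prime] {K₀ : Type} [Group K₀] [Finite K₀] (m : MData hp r q K₀) {w : ℕ}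
    (hw : Nat.card M.Group = w) : SB r K₀ (cop r w * (q + 1) ^ l) := by
  have h1 := h D l M hp (KK r) r (locFin r) K₀ m.ι m.inj m.e m.σ m.g m.he m.frob m.fr m.fix
  rw [m.hq, hw] at h1
  exact h1

theorem sbch (h : X3) {D : ChevalleyDatum} {l : ℕ} {M : CoxeterMatrix (Fin l)} (hp : IsType D l M)
    (hB2 : D ≠ chevB2) (hD4 : D ≠ chevD4) {w : ℕ} (hw : Nat.card M.Group = w) : SBCh D l w := by
  intro F _ _ p _ _
  obtain ⟨m, -⟩ := mdata_untw (r := p) hp hB2 hD4 F
  exact sb_of_mdata h m hw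

theorem ne_of_nroots {D D' : ChevalleyDatum} (h : D.nroots ≠ D'.nroots) : D ≠ D' := fun e => h (e ▸ rfl)

theorem isTypeF4 : IsType chevF4 4 CoxeterMatrix.F₄ := by simp [IsType, typeList]

theorem isTypeE6 : IsType chevE6 6 CoxeterMatrix.E₆ := by simp [IsType, typeList]

theorem isTypeE7 : IsType chevE7 7 CoxeterMatrix.E₇ := by simp [IsType, typeList]

theorem isTypeE8 : IsType chevE8 8 CoxeterMatrix.E₈ := by simp [IsType, typeList]

theorem card_F4 : Nat.card CoxeterMatrix.F₄.Group = 1152 := S1092.result (⟨4, CoxeterMatrix.F₄⟩, 1152) (by simp)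

theorem card_E6 : Nat.card CoxeterMatrix.E₆.Group = 51840 := S1093.result (⟨6, CoxeterMatrix.E₆⟩, 51840) (by simp)

theorem card_E7 : Nat.card CoxeterMatrix.E₇.Group = 2903040 := S1093.result (⟨7, CoxeterMatrix.E₇⟩, 2903040) (by simp)

theorem card_E8 : Nat.card CoxeterMatrix.E₈.Group = 696729600 :=
  S1093.result (⟨8, CoxeterMatrix.E₈⟩, 696729600) (by simp)

theorem sb_F4 (h : X3) : SBCh chevF4 4 1152 :=
  sbch h isTypeF4 (ne_of_nroots (by decide)) (ne_of_nroots (by decide)) card_F4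

theorem sb_E6 (h : X3) : SBCh chevE6 6 51840 :=
  sbch h isTypeE6 (ne_of_nroots (by decide)) (ne_of_nroots (by decide)) card_E6

theorem sb_E7 (h : X3) : SBCh chevE7 7 2903040 :=
  sbch h isTypeE7 (ne_of_nroots (by decide)) (ne_of_nroots (by decide)) card_E7

theorem sb_E8 (h : X3) : SBCh chevE8 8 696729600 :=
  sbch h isTypeE8 (ne_of_nroots (by decide)) (ne_of_nroots (by decide)) card_E8

/-- `q` is a prime power if `|K| = q ^ n` -/
theorem primePow_of_card {K : Type} [Field K] [Fintype K] {q n : ℕ} (hn : n ≠ 0) (hK : Fintype.card K = q ^ n) :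
    IsPrimePow q := by
  have h1 : IsPrimePow (q ^ n) := hK ▸ FiniteField.isPrimePow_card K
  exact (isPrimePow_pow_iff hn).1 h1

theorem sb_twE6 (h : X3) : SBTwE6 := by
  intro K _ _ q hK p _ _
  obtain ⟨m, -⟩ := mdata_twE6' (r := p) (primePow_of_card two_ne_zero hK) hK
  exact sb_of_mdata h m card_E6

end Cfsg.Agent.H316.Ab
end

-- part: H197/Ab/DetBound
section
/-!
# `|det (A - q)| ≤ (q + 1) ^ l` for an integral matrix of finite order

* `natAbs_det_le`, `natAbs_det_le'` (endomorphisms of `ℤ^l`);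
* `det_ne_zero` : `det (A - q)` is prime to every divisor `r > 1` of `q`.
-/

set_option autoImplicit false

namespace Cfsg.Agent.H197.Ab.DetBound

open Polynomial

/-- the eigenvalues of a matrix of finite order -/
theorem norm_root {l : ℕ} {B : Matrix (Fin l) (Fin l) ℂ} {m : ℕ} (hm : 0 < m) (hB : B ^ m = 1) {a : ℂ}
    (ha : a ∈ B.charpoly.roots) : ‖a‖ = 1 := by
  have h1 : B.charpoly.IsRoot a := (Polynomial.mem_roots'.1 ha).2
  have h2 : (Matrix.scalar (Fin l) a - B).det = 0 := by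
    rw [← Matrix.eval_charpoly]
    exact h1
  obtain ⟨v, hv, h3⟩ := Matrix.exists_mulVec_eq_zero_iff.2 h2
  have h4 : B.mulVec v = a • v := by
    rw [Matrix.sub_mulVec, sub_eq_zero] at h3
    rw [← h3, Matrix.scalar_apply, ← Matrix.smul_one_eq_diagonal, Matrix.smul_mulVec, Matrix.one_mulVec]
  have h5 : ∀ j : ℕ, (B ^ j).mulVec v = a ^ j • v := by
    intro j
    induction j with
    | zero => rw [pow_zero, pow_zero, Matrix.one_mulVec, one_smul]
    | succ j ih => rw [pow_succ, ← Matrix.mulVec_mulVec, h4, Matrix.mulVec_smul, ih, smul_smul, pow_succ, mul_comm]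
  have h6 := h5 m
  rw [hB, Matrix.one_mulVec] at h6
  have h7 : a ^ m = 1 := by
    obtain ⟨i, hi⟩ := Function.ne_iff.1 hv
    have h8 := congrFun h6 i
    rw [Pi.smul_apply, smul_eq_mul] at h8
    exact (mul_right_cancel₀ hi ((one_mul _).trans h8)).symm
  exact Complex.norm_eq_one_of_pow_eq_one h7 hm.ne'

theorem natAbs_det_le {l : ℕ} (A : Matrix (Fin l) (Fin l) ℤ) {m : ℕ} (hm : 0 < m) (hA : A ^ m = 1) (q : ℕ) :
    (A - (q : ℤ) • (1 : Matrix (Fin l) (Fin l) ℤ)).det.natAbs ≤ (q + 1) ^ l := by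
  classical
  set B : Matrix (Fin l) (Fin l) ℂ := A.map (Int.castRingHom ℂ) with hBdef
  have hBm : B ^ m = 1 := by
    rw [hBdef]
    have h1 : (Int.castRingHom ℂ).mapMatrix (A ^ m) = 1 := by rw [hA, map_one]
    rw [map_pow] at h1
    exact h1
  have hsplit : B.charpoly.Splits := IsAlgClosed.splits _
  have hmonic : B.charpoly.Monic := B.charpoly_monic
  have h2 : B.charpoly = (B.charpoly.roots.map fun a => X - C a).prod :=
    hsplit.eq_prod_roots_of_monic hmonic
  have h3 : B.charpoly.roots.card = l := by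
    rw [← hsplit.natDegree_eq_card_roots, Matrix.charpoly_natDegree_eq_dim, Fintype.card_fin]
  have h4 : ‖B.charpoly.eval (q : ℂ)‖ ≤ ((q : ℝ) + 1) ^ l := by
    have h5 : B.charpoly.eval (q : ℂ) = (B.charpoly.roots.map fun a => (q : ℂ) - a).prod := by
      conv_lhs => rw [h2]
      rw [Polynomial.eval_multiset_prod, Multiset.map_map]
      congr 1
      refine Multiset.map_congr rfl fun a _ => ?_
      simp
    rw [h5]
    have key : ∀ s : Multiset ℂ, (∀ a ∈ s, ‖a‖ = 1) → ‖(s.map fun a => (q : ℂ) - a).prod‖ ≤ ((q : ℝ) + 1) ^ s.card := by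
      intro s
      induction s using Multiset.induction_on with
      | empty => intro _; simp
      | cons a s ih =>
        intro hs
        rw [Multiset.map_cons, Multiset.prod_cons, norm_mul, Multiset.card_cons, pow_succ']
        have h6 : ‖(q : ℂ) - a‖ ≤ (q : ℝ) + 1 := by
          refine (norm_sub_le _ _).trans ?_
          rw [hs a (Multiset.mem_cons_self a s), Complex.norm_natCast]
        exact mul_le_mul h6 (ih fun b hb => hs b (Multiset.mem_cons_of_mem hb)) (norm_nonneg _) (by positivity)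
    have h7 := key B.charpoly.roots fun a ha => norm_root hm hBm ha
    rwa [h3] at h7
  rw [Matrix.eval_charpoly] at h4
  have h5 : ((A - (q : ℤ) • (1 : Matrix (Fin l) (Fin l) ℤ)).det : ℂ) =
      (-1) ^ l * (Matrix.scalar (Fin l) (q : ℂ) - B).det := by
    have h6 : ((A - (q : ℤ) • (1 : Matrix (Fin l) (Fin l) ℤ)).det : ℂ) = (B - (q : ℂ) • (1 : Matrix (Fin l) (Fin l) ℂ)).det := by
      have h7 := RingHom.map_det (Int.castRingHom ℂ) (A - (q : ℤ) • (1 : Matrix (Fin l) (Fin l) ℤ))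
      have h8 : (Int.castRingHom ℂ).mapMatrix (A - (q : ℤ) • (1 : Matrix (Fin l) (Fin l) ℤ)) =
          B - (q : ℂ) • (1 : Matrix (Fin l) (Fin l) ℂ) := by
        rw [map_sub]
        congr 1
        ext i j
        rw [RingHom.mapMatrix_apply, Matrix.map_apply, Matrix.smul_apply, Matrix.smul_apply, Matrix.one_apply,
          Matrix.one_apply]
        split_ifs <;> simp
      rw [h8] at h7
      exact h7
    rw [h6]
    have h9 : B - (q : ℂ) • (1 : Matrix (Fin l) (Fin l) ℂ) = -(Matrix.scalar (Fin l) (q : ℂ) - B) := by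
      rw [Matrix.scalar_apply, ← Matrix.smul_one_eq_diagonal, neg_sub]
    rw [h9, Matrix.det_neg, Fintype.card_fin]
  have h6 : ((A - (q : ℤ) • (1 : Matrix (Fin l) (Fin l) ℤ)).det.natAbs : ℝ) ≤ ((q : ℝ) + 1) ^ l := by
    have h7 : ((A - (q : ℤ) • (1 : Matrix (Fin l) (Fin l) ℤ)).det.natAbs : ℝ) =
        ‖((A - (q : ℤ) • (1 : Matrix (Fin l) (Fin l) ℤ)).det : ℂ)‖ := by
      rw [Complex.norm_intCast, Nat.cast_natAbs, Int.cast_abs]
    rw [h7, h5, norm_mul, norm_pow, norm_neg, norm_one, one_pow, one_mul]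
    exact h4
  exact_mod_cast h6

variable {l : ℕ}

theorem natAbs_det_le' (θ : Module.End ℤ (Fin l → ℤ)) {m : ℕ} (hm : 0 < m) (hθ : θ ^ m = 1) (q : ℕ) :
    (LinearMap.det (θ - ((q : ℕ) : ℤ) • (1 : Module.End ℤ (Fin l → ℤ)))).natAbs ≤ (q + 1) ^ l := by
  have h1 : LinearMap.toMatrix' (θ ^ m) = LinearMap.toMatrix' θ ^ m := by
    have := map_pow (LinearMap.toMatrixAlgEquiv' (R := ℤ) (n := Fin l)) θ m
    exact this
  have h2 : LinearMap.toMatrix' θ ^ m = 1 := by
    rw [← h1, hθ]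
    exact LinearMap.toMatrix'_one
  have h3 := natAbs_det_le (LinearMap.toMatrix' θ) hm h2 q
  rw [← LinearMap.det_toMatrix', map_sub, map_smul]
  have h4 : LinearMap.toMatrix' (1 : Module.End ℤ (Fin l → ℤ)) = 1 := LinearMap.toMatrix'_one
  rw [h4]
  exact h3

/-- `det (θ - q)` is not divisible by a divisor of `q`, for invertible `θ` -/
theorem not_dvd_det (θ : Module.End ℤ (Fin l → ℤ)) {m : ℕ} (hm : 0 < m) (hθ : θ ^ m = 1) {q r : ℕ} (hr : r.Prime)
    (hq : r ∣ q) : ¬ (r : ℤ) ∣ LinearMap.det (θ - ((q : ℕ) : ℤ) • (1 : Module.End ℤ (Fin l → ℤ))) := by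
  intro hd
  rw [← LinearMap.det_toMatrix', map_sub, map_smul] at hd
  have h4 : LinearMap.toMatrix' (1 : Module.End ℤ (Fin l → ℤ)) = 1 := LinearMap.toMatrix'_one
  rw [h4] at hd
  have hfr : Fact r.Prime := ⟨hr⟩
  have h1 : ((LinearMap.toMatrix' θ - ((q : ℕ) : ℤ) • (1 : Matrix (Fin l) (Fin l) ℤ)).det : ZMod r) = 0 :=
    (ZMod.intCast_zmod_eq_zero_iff_dvd _ r).2 hd
  have h2 := RingHom.map_det (Int.castRingHom (ZMod r)) (LinearMap.toMatrix' θ -
    ((q : ℕ) : ℤ) • (1 : Matrix (Fin l) (Fin l) ℤ))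
  have h3 : (Int.castRingHom (ZMod r)).mapMatrix (LinearMap.toMatrix' θ -
      ((q : ℕ) : ℤ) • (1 : Matrix (Fin l) (Fin l) ℤ)) = (Int.castRingHom (ZMod r)).mapMatrix (LinearMap.toMatrix' θ) := by
    rw [map_sub]
    have h5 : (Int.castRingHom (ZMod r)).mapMatrix (((q : ℕ) : ℤ) • (1 : Matrix (Fin l) (Fin l) ℤ)) = 0 := by
      ext i j
      have h6 : ((q : ℕ) : ZMod r) = 0 := (ZMod.natCast_eq_zero_iff q r).2 hq
      rw [RingHom.mapMatrix_apply, Matrix.map_apply, Matrix.smul_apply, smul_eq_mul, map_mul, Matrix.zero_apply]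
      have h7 : (Int.castRingHom (ZMod r)) ((q : ℕ) : ℤ) = 0 := by
        rw [map_natCast, h6]
      rw [h7, zero_mul]
    rw [h5, sub_zero]
  rw [h3, ← RingHom.map_det] at h2
  have h5 : ((LinearMap.toMatrix' θ).det : ZMod r) = 0 := by
    have h6 : (Int.castRingHom (ZMod r)) (LinearMap.toMatrix' θ - ((q : ℕ) : ℤ) • (1 : Matrix (Fin l) (Fin l) ℤ)).det = 0 := h1
    rw [h2] at h6
    exact h6
  have h6 : (LinearMap.toMatrix' θ).det ^ m = 1 := by
    rw [← Matrix.det_pow]
    have h7 : LinearMap.toMatrix' (θ ^ m) = LinearMap.toMatrix' θ ^ m := by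
      have := map_pow (LinearMap.toMatrixAlgEquiv' (R := ℤ) (n := Fin l)) θ m
      exact this
    rw [← h7, hθ, h4, Matrix.det_one]
  have h7 := congrArg (Int.cast : ℤ → ZMod r) h6
  rw [Int.cast_pow, h5, zero_pow hm.ne', Int.cast_one] at h7
  exact one_ne_zero h7.symm

end Cfsg.Agent.H197.Ab.DetBound
end

-- part: H197/Ab/X3
section
/-!
# The torus bound (helper197)

* `card_toral_le` : a finite toral group of fixed points of a Frobenius map has order at most `(q + 1) ^ l`;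
* `card_le` : an abelian `r'`-group of fixed points has order at most `|W|_{r'} (q + 1) ^ l`;
* `x3 : X3`.
-/

set_option autoImplicit false
set_option linter.unusedSectionVars false

namespace Cfsg.Agent.H197.Ab.X3

open CoxeterSystem Cfsg Cfsg.Lie Cfsg.Lie.ChevalleyDatum
open Cfsg.Agent.ChevalleyStructure Cfsg.Agent.ChevalleyStructure.Elts Cfsg.Agent.ChevalleyStructure.CoxeterGeom
  Cfsg.Agent.ChevalleyStructure.CoxeterGeomTypes Cfsg.Agent.ChevalleyStructure.NPerm
open Cfsg.Agent.Tits.Roots Cfsg.Agent.Tits.Core Cfsg.Agent.Nodes Cfsg.Agent.Nodes.Reps Cfsg.Agent.Nodes.BNOf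
  Cfsg.Agent.Nodes.RGDChev Cfsg.Agent.Nodes.Bruhat
open Cfsg.Agent.KFacts.RgdField Cfsg.Agent.KFacts.RgdChevCoord Cfsg.Agent.BpExc.TorCent Cfsg.Agent.BpExc.TorChev
open Cfsg.Agent.GpExc.Field Cfsg.Agent.BpExc.Tow Cfsg.Agent.BpExc.TowChev Cfsg.Agent.BpExc.Fr
  Cfsg.Agent.BpExc.LangFr Cfsg.Agent.LangThm Cfsg.Agent.BpExc Cfsg.Agent.H129.TorusChar
  Cfsg.Agent.H129.TorusMain Cfsg.Agent.H378.TorDual Cfsg.Agent.H720.TorusReal

universe u v

/-- the character of a multiplicative function -/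
def chOf {l : ℕ} {k : Type u} [Field k] {φ : (Fin l → ℤ) → k} (h : IsMC φ) : Ch l k where
  toFun x := ⟨φ (Multiplicative.toAdd x), φ (-Multiplicative.toAdd x), by rw [← h.add, add_neg_cancel, h.zero],
    by rw [← h.add, neg_add_cancel, h.zero]⟩
  map_one' := Units.ext h.zero
  map_mul' _ _ := Units.ext (h.add _ _)

theorem chOf_apply {l : ℕ} {k : Type u} [Field k] {φ : (Fin l → ℤ) → k} (h : IsMC φ) (x : Fin l → ℤ) :
    ((chOf h (Multiplicative.ofAdd x) : kˣ) : k) = φ x := rfl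

variable {D : ChevalleyDatum} {l : ℕ} {M : CoxeterMatrix (Fin l)} (hp : IsType D l M) {k : Type u} [Field k]
  {W : Type*} [Group W] (cs : CoxeterSystem M W) {r e : ℕ} [Fact r.Prime] [CharP k r] {σ : MulAut ↥(D.group k)}
  {g : (Fin l → ℤ) ≃+ (Fin l → ℤ)}

include hp cs in
/-- **Toral groups of fixed points.** -/
theorem card_toral_le [IsAlgClosed k] [Finite W] (hk : LocFin k) (he : 0 < e) (hσ : IsFrob r e σ)
    (F : Fr cs hp.isCartan (TT D k) (XX D l k) σ g) (B : Subgroup ↥(D.group k)) [Finite ↥B]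
    (hfix : ∀ x ∈ B, σ x = x) {y : ↥(D.group k)} (hy : ∀ x ∈ B, y * x * y⁻¹ ∈ TT D k) :
    Nat.card ↥B ≤ (r ^ e + 1) ^ l := by
  have hN : NSys M (TT D k) (nc hp k) := H378.TorChar.nsysL hp cs hk r
  -- one element of the Weyl group
  obtain ⟨w, n, hn, hnt⟩ : ∃ (w : W) (n : ↥(D.group k)), Rp cs hN w n ∧
      ∀ x ∈ B, n * σ (y * x * y⁻¹) * n⁻¹ = y * x * y⁻¹ := by
    have H := tow hp cs hk r
    have C := coordsL hp cs hk r
    rw [← TL_eq hp hk, ← XL_eq hp hk] at C
    have hcG : y * (σ y)⁻¹ ∈ GG cs hp.isCartan (TL (Tj hp (k := k))) (XL (Xj hp)) := by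
      rw [GG_eq_top hp cs hk]; exact Subgroup.mem_top _
    obtain ⟨m', -, w, n, hn, hnt, -⟩ := H795.SetCent.exists_formZ H C (ι := ↥B)
      (s := fun x => σ (y * x * y⁻¹)) (t := fun x => y * (x : ↥(D.group k)) * y⁻¹)
      (fun x => by rw [TL_eq hp hk]; exact (F.tor _).2 (hy _ x.2))
      (fun x => by rw [TL_eq hp hk]; exact hy _ x.2) hcG
      (fun x => by
        show (y * (σ y)⁻¹) * σ (y * x * y⁻¹) = y * x * y⁻¹ * (y * (σ y)⁻¹)
        rw [map_mul, map_mul, map_inv, hfix _ x.2]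
        group)
    have key : ∀ (T : Subgroup ↥(D.group k)) (h1 : NSys M T (nc hp k)) (h2 : T = TT D k), Rp cs h1 w n →
        Rp cs hN w n := by
      intro T h1 h2 h3
      subst h2
      exact h3
    refine ⟨w, n, key _ _ (TL_eq hp hk) hn, fun x hx => ?_⟩
    have h1 : n * σ (y * x * y⁻¹) = y * x * y⁻¹ * n := hnt ⟨x, hx⟩
    rw [h1]; group
  have htau : ∀ x ∈ B, ∀ v, cX hp (y * x * y⁻¹) (theta hp cs w g v) = cX hp (y * x * y⁻¹) v ^ r ^ e :=
    fun x hx => (tau_iff hp cs hk hσ F hn (hy x hx)).1 (hnt x hx)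
  -- the lattice endomorphism
  set Θ : Module.End ℤ (Fin l → ℤ) := (theta hp cs w g).toIntLinearMap with hΘ
  have hΘa : ∀ v, Θ v = rep cs hp.isCartan w (g v) := fun _ => rfl
  obtain ⟨m, hm, hper⟩ := exists_period' hp cs ((fr_conj hp cs hk r hn).mul F)
  have hΘm : Θ ^ m = 1 := by
    refine LinearMap.ext fun v => ?_
    rw [Module.End.pow_apply, Module.End.one_apply]
    exact hper v
  set q := r ^ e with hq
  have hrq : r ∣ q := dvd_pow_self r he.ne'
  set f : Module.End ℤ (Fin l → ℤ) := Θ - ((q : ℕ) : ℤ) • (1 : Module.End ℤ (Fin l → ℤ)) with hf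
  have hdet : ((LinearMap.det f : ℤ) : k) ≠ 0 := by
    intro h0
    exact DetBound.not_dvd_det Θ hm hΘm (Fact.out : r.Prime) hrq ((CharP.intCast_eq_zero_iff k r _).1 h0)
  have hcard := card_kerOf (k := k) hdet
  have hdet0 : LinearMap.det f ≠ 0 := by
    intro h0
    apply hdet
    rw [h0, Int.cast_zero]
  have hfin : Finite ↥(KerOf k f) := by
    apply Nat.finite_of_card_ne_zero
    rw [hcard]
    exact Int.natAbs_ne_zero.2 hdet0
  have hbound : Nat.card ↥(KerOf k f) ≤ (q + 1) ^ l := by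
    rw [hcard]
    exact DetBound.natAbs_det_le' Θ hm hΘm q
  refine le_trans ?_ hbound
  refine Nat.card_le_card_of_injective (fun x : ↥B => (⟨chOf (isMC_cX hp (hy x.1 x.2)), ?_⟩ : ↥(KerOf k f))) ?_
  · rw [mem_kerOf]
    intro v
    apply Units.ext
    rw [chOf_apply]
    have h1 : f v = theta hp cs w g v - ((q : ℕ) : ℤ) • v := by
      rw [hf, LinearMap.sub_apply, LinearMap.smul_apply, Module.End.one_apply]
      rfl
    rw [h1, (isMC_cX hp (hy x.1 x.2)).sub, htau x.1 x.2, (isMC_cX hp (hy x.1 x.2)).zsmul, zpow_natCast, Units.val_one]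
    exact div_self (pow_ne_zero _ ((isMC_cX hp (hy x.1 x.2)).ne_zero v))
  · intro a b hab
    have h1 : chOf (isMC_cX hp (hy a.1 a.2)) = chOf (isMC_cX hp (hy b.1 b.2)) := congrArg Subtype.val hab
    have h2 : y * (a : ↥(D.group k)) * y⁻¹ = y * b * y⁻¹ := by
      refine cX_inj hp (hy a.1 a.2) (hy b.1 b.2) fun i => ?_
      have h3 := congrArg (fun c : Ch l k => ((c (Multiplicative.ofAdd (sr i)) : kˣ) : k)) h1
      exact h3
    exact Subtype.ext (mul_left_cancel (mul_right_cancel h2))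

include hp in
/-- **The torus bound.** -/
theorem card_le [IsAlgClosed k] (hk : LocFin k) {G : Type v} [Group G] [Finite G] (f : G →* ↥(D.group k))
    (hf : Function.Injective f) (he : 0 < e) (hσ : IsFrob r e σ)
    (F : Fr M.toCoxeterSystem hp.isCartan (TT D k) (XX D l k) σ g) (hfix : ∀ x, σ (f x) = f x)
    (A : Subgroup G) (hA : IsMulCommutative A) (hrA : ¬ r ∣ Nat.card A) :
    ∃ m a, Nat.card A = a * m ∧ m ∣ Nat.card M.Group ∧ a ≤ (r ^ e + 1) ^ l := by
  have hW := finite_W hp (M.toCoxeterSystem)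
  have hcomm : ∀ x ∈ A, ∀ y ∈ A, x * y = y * x := by
    intro x hx y hy
    exact congrArg Subtype.val (mul_comm' (⟨x, hx⟩ : ↥A) ⟨y, hy⟩)
  have hcardA : Nat.card ↥(A.map f) = Nat.card ↥A := Nat.card_congr (A.equivMapOfInjective f hf).toEquiv.symm
  have hfinA : Finite ↥(A.map f) := Finite.of_equiv _ (A.equivMapOfInjective f hf).toEquiv
  obtain ⟨B₀, y, m, h1, h2, h3, h4⟩ := TorLift.exists_toral_k hp r (TorLift.hAlg_of_locFin hk) (A.map f) (by
    rintro _ ⟨x, hx, rfl⟩ _ ⟨y, hy, rfl⟩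
    rw [← map_mul, ← map_mul, hcomm x hx y hy]) (by rw [hcardA]; exact hrA)
  have hfinB : Finite ↥B₀ := Finite.of_injective _ (Subgroup.inclusion_injective h1)
  refine ⟨m, Nat.card ↥B₀, by rw [← hcardA]; exact h3, h4, ?_⟩
  refine card_toral_le hp M.toCoxeterSystem hk he hσ F B₀ (fun x hx => ?_) h2
  obtain ⟨x', -, rfl⟩ := h1 hx
  exact hfix x'

/-- a divisor prime to `r` divides the prime to `r` part -/
theorem le_cop {r n m : ℕ} (hr : r.Prime) (hn : n ≠ 0) (hm : m ∣ n) (hrm : ¬ r ∣ m) : m ≤ H157.Ab.cop r n := by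
  unfold H157.Ab.cop
  refine Nat.le_of_dvd (Nat.ordCompl_pos r hn) ?_
  have h1 : Nat.Coprime m (r ^ n.factorization r) :=
    (Nat.Coprime.pow_left _ ((Nat.Prime.coprime_iff_not_dvd hr).2 hrm)).symm
  have h2 : m ∣ r ^ n.factorization r * (n / r ^ n.factorization r) := by
    rw [Nat.ordProj_mul_ordCompl_eq_self]
    exact hm
  exact h1.dvd_of_dvd_mul_left h2

/-- **The torus bound**, the statement of helper157. -/
theorem x3 : H157.Ab.X3 := by
  intro D l M hp k _ r _ _ _ hk G _ _ f hf e σ g he hσ F hfix A hA hrA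
  have hW := finite_W hp (M.toCoxeterSystem)
  obtain ⟨m, a, h1, h2, h3⟩ := card_le hp hk f hf he hσ F hfix A hA hrA
  have h4 : ¬ r ∣ m := fun hd => hrA (hd.trans (Dvd.intro_left _ h1.symm))
  have h5 := le_cop (Fact.out : r.Prime) Nat.card_pos.ne' h2 h4
  rw [h1, mul_comm]
  exact Nat.mul_le_mul h5 h3

end Cfsg.Agent.H197.Ab.X3
end

-- part: H157/Ab/MixIrr
section
/-!
# Isotropic subgroups for coprime abelian groups of isometries, I: irreducible modules (helper157)

`S` an abelian group acting irreducibly and non-trivially on the elementary abelian `p`-group `V`, preserving a nonzero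
alternating biadditive map `β : V → V → W`: there is a totally isotropic `Y` with `|S / C_S(V)| ≤ |Y| + 1`, `1 < |Y|`.
-/

set_option autoImplicit false

namespace Cfsg.Agent.H157.Ab.MixIrr

variable {S V W : Type*} [CommGroup S] [AddCommGroup V] [AddCommGroup W] [DistribMulAction S V]

/-- the action of an element -/
def en (s : S) : AddMonoid.End V := DistribMulAction.toAddMonoidEnd S V s

theorem en_apply (s : S) (x : V) : en s x = s • x := rfl

theorem en_mul (s t : S) : (en (s * t) : AddMonoid.End V) = en s * en t := by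
  ext x; simp only [en_apply, mul_smul, _root_.AddMonoid.End.coe_mul, _root_.Function.comp_apply]

theorem en_one : (en (1 : S) : AddMonoid.End V) = 1 := by
  ext x; simp [en_apply]

/-- the ring generated by `S` -/
def KK (S V : Type*) [CommGroup S] [AddCommGroup V] [DistribMulAction S V] : Subring (AddMonoid.End V) :=
  Subring.closure (Set.range (fun s : S => (en s : AddMonoid.End V)))

theorem en_mem (s : S) : (en s : AddMonoid.End V) ∈ KK S V := Subring.subset_closure ⟨s, rfl⟩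

theorem en_comm (s t : S) : (en s * en t : AddMonoid.End V) = en t * en s := by
  rw [← en_mul, ← en_mul, mul_comm]

theorem comm_en {k : AddMonoid.End V} (hk : k ∈ KK S V) (s : S) : k * en s = en s * k := by
  induction hk using Subring.closure_induction with
  | mem x hx => obtain ⟨t, rfl⟩ := hx; exact en_comm t s
  | zero => simp
  | one => simp
  | add x y _ _ hx hy => rw [add_mul, mul_add, hx, hy]
  | neg x _ hx => rw [neg_mul, mul_neg, hx]
  | mul x y _ _ hx hy => rw [mul_assoc, hy, ← mul_assoc, hx, mul_assoc]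

theorem comm_K {k l : AddMonoid.End V} (hk : k ∈ KK S V) (hl : l ∈ KK S V) : k * l = l * k := by
  induction hl using Subring.closure_induction with
  | mem x hx => obtain ⟨t, rfl⟩ := hx; exact comm_en hk t
  | zero => simp
  | one => simp
  | add x y _ _ hx hy => rw [add_mul, mul_add, hx, hy]
  | neg x _ hx => rw [neg_mul, mul_neg, hx]
  | mul x y _ _ hx hy => rw [← mul_assoc, hx, mul_assoc, hy, mul_assoc]

variable (hirr : ∀ U : AddSubgroup V, (∀ (s : S) (x : V), x ∈ U → s • x ∈ U) → U = ⊥ ∨ U = ⊤)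

include hirr

theorem K_inj {k : AddMonoid.End V} (hk : k ∈ KK S V) (hk0 : k ≠ 0) {x : V} (hx : k x = 0) : x = 0 := by
  rcases hirr (AddMonoidHom.ker (k : V →+ V)) (fun s y hy => by
    show k (s • y) = 0
    have h1 := DFunLike.congr_fun (comm_en (S := S) hk s) y
    have h2 : k (s • y) = s • k y := h1
    have h3 : k y = 0 := hy
    rw [h2, h3, smul_zero]) with h | h
  · have : x ∈ AddMonoidHom.ker (k : V →+ V) := hx
    rw [h] at this
    exact (AddSubgroup.mem_bot).1 this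
  · exfalso
    apply hk0
    ext y
    have : y ∈ AddMonoidHom.ker (k : V →+ V) := by rw [h]; trivial
    exact this

theorem K_eq_zero_or {k l : AddMonoid.End V} (hk : k ∈ KK S V) (h : k * l = 0) : k = 0 ∨ l = 0 := by
  by_cases hk0 : k = 0
  · exact Or.inl hk0
  · refine Or.inr ?_
    ext x
    exact K_inj hirr hk hk0 (DFunLike.congr_fun h x)

variable (β : V →+ V →+ W) (alt : ∀ x, β x x = 0) (inv : ∀ (s : S) (x y : V), β (s • x) (s • y) = β x y)

omit hirr [DistribMulAction S V] in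
include alt in
theorem skew (x y : V) : β x y = - β y x := by
  have h := alt (x + y)
  simp only [map_add, AddMonoidHom.add_apply, alt, zero_add, add_zero] at h
  exact eq_neg_of_add_eq_zero_left (by rw [← h]; abel)

/-- the adjoint relation -/
def Adj (β : V →+ V →+ W) (k l : AddMonoid.End V) : Prop := ∀ x y, β (k x) y = β x (l y)

omit hirr in
include inv in
theorem exists_adj {k : AddMonoid.End V} (hk : k ∈ KK S V) : ∃ l ∈ KK S V, Adj β k l ∧ Adj β l k := by
  induction hk using Subring.closure_induction with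
  | mem x hx =>
    obtain ⟨s, rfl⟩ := hx
    refine ⟨en s⁻¹, en_mem _, fun x y => ?_, fun x y => ?_⟩
    · have := inv s x (s⁻¹ • y)
      rw [smul_inv_smul] at this
      exact this
    · have := inv s (s⁻¹ • x) y
      rw [smul_inv_smul] at this
      exact this.symm
  | zero => exact ⟨0, zero_mem _, fun x y => by simp, fun x y => by simp only [_root_.AddMonoid.End.zero_apply, _root_.map_zero, _root_.AddMonoidHom.zero_apply]⟩
  | one => exact ⟨1, one_mem _, fun x y => rfl, fun x y => rfl⟩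
  | add x y _ _ hx hy =>
    obtain ⟨l, hl, h1, h2⟩ := hx
    obtain ⟨m, hm, h3, h4⟩ := hy
    refine ⟨l + m, add_mem hl hm, fun a b => ?_, fun a b => ?_⟩
    · show β (x a + y a) b = β a (l b + m b)
      rw [map_add, AddMonoidHom.add_apply, map_add, h1, h3]
    · show β (l a + m a) b = β a (x b + y b)
      rw [map_add, AddMonoidHom.add_apply, map_add, h2, h4]
  | neg x _ hx =>
    obtain ⟨l, hl, h1, h2⟩ := hx
    refine ⟨-l, neg_mem hl, fun a b => ?_, fun a b => ?_⟩
    · show β (-(x a)) b = β a (-(l b))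
      rw [map_neg, AddMonoidHom.neg_apply, map_neg, h1]
    · show β (-(l a)) b = β a (-(x b))
      rw [map_neg, AddMonoidHom.neg_apply, map_neg, h2]
  | mul x y hx' hy' hx hy =>
    obtain ⟨l, hl, h1, h2⟩ := hx
    obtain ⟨m, hm, h3, h4⟩ := hy
    refine ⟨l * m, mul_mem hl hm, fun a b => ?_, fun a b => ?_⟩
    · rw [comm_K hl hm]
      show β (x (y a)) b = β a (m (l b))
      rw [h1, h3]
    · have hc : x * y = y * x := comm_K (S := S) hx' hy'
      rw [hc]
      show β (l (m a)) b = β a (y (x b))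
      rw [h2, h4]

variable (hβ : ∃ x y, β x y ≠ 0)

include inv hβ in
theorem nondeg {y : V} (hy : ∀ x, β x y = 0) : y = 0 := by
  let R : AddSubgroup V :=
    { carrier := {y | ∀ x, β x y = 0}
      zero_mem' := fun x => map_zero _
      add_mem' := fun {a b} ha hb x => by rw [map_add, ha x, hb x, add_zero]
      neg_mem' := fun {a} ha x => by rw [map_neg, ha x, neg_zero] }
  rcases hirr R (fun s z hz x => by
    have := inv s (s⁻¹ • x) z
    rw [smul_inv_smul] at this
    rw [this]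
    exact hz _) with h | h
  · have h1 : y ∈ R := hy
    rw [h] at h1
    exact AddSubgroup.mem_bot.1 h1
  · exfalso
    obtain ⟨a, b, hab⟩ := hβ
    apply hab
    have h1 : b ∈ R := by rw [h]; trivial
    exact h1 a

include inv hβ in
theorem adj_unique {k l l' : AddMonoid.End V} (h1 : Adj β k l) (h2 : Adj β k l') : l = l' := by
  ext y
  have : l y - l' y = 0 := by
    apply nondeg hirr β inv hβ
    intro x
    rw [map_sub, ← h1, ← h2, sub_self]
  exact sub_eq_zero.1 this

/-- the self-adjoint elements of `K` -/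
def K0 (S : Type*) [CommGroup S] [DistribMulAction S V] (β : V →+ V →+ W) : AddSubgroup (AddMonoid.End V) where
  carrier := {k | k ∈ KK S V ∧ Adj β k k}
  zero_mem' := ⟨zero_mem _, fun x y => by simp⟩
  add_mem' := by
    rintro a b ⟨ha, ha'⟩ ⟨hb, hb'⟩
    refine ⟨add_mem ha hb, fun x y => ?_⟩
    show β (a x + b x) y = β x (a y + b y)
    rw [map_add, AddMonoidHom.add_apply, map_add, ha', hb']
  neg_mem' := by
    rintro a ⟨ha, ha'⟩
    refine ⟨neg_mem ha, fun x y => ?_⟩
    show β (-(a x)) y = β x (-(a y))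
    rw [map_neg, AddMonoidHom.neg_apply, map_neg, ha']

omit hirr in
theorem K0_mul {a b : AddMonoid.End V} (ha : a ∈ K0 S β) (hb : b ∈ K0 S β) : a * b ∈ K0 S β := by
  refine ⟨mul_mem ha.1 hb.1, fun x y => ?_⟩
  rw [comm_K ha.1 hb.1]
  show β (b (a x)) y = β x (b (a y))
  rw [hb.2, ha.2, ← hb.2]
  have h1 : a (b y) = b (a y) := DFunLike.congr_fun (comm_K ha.1 hb.1) y
  rw [hb.2, ← h1]

variable [Finite V] {p : ℕ} [hpp : Fact p.Prime] (hp : ∀ x : V, p • x = 0)

include alt hp in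
/-- self-adjoint elements: `β (x, c x) = 0` -/
theorem self_iso {c : AddMonoid.End V} (hc : c ∈ K0 S β) (x : V) : β x (c x) = 0 := by
  have hfin : Finite (AddMonoid.End V) := Finite.of_injective (fun f : AddMonoid.End V => (f : V → V)) DFunLike.coe_injective
  have hW : ∀ x y, p • β x y = 0 := by
    intro x y
    rw [← map_nsmul, hp, map_zero]
  have h2 : (2 : ℕ) • β x (c x) = 0 := by
    have h1 : β x (c x) = - β x (c x) := by
      conv_lhs => rw [← hc.2, skew β alt]
    rw [two_nsmul]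
    nth_rewrite 1 [h1]
    exact neg_add_cancel (β x (c x))
  by_cases hp2 : p = 2
  · -- squares
    subst hp2
    have hinj : Function.Injective (fun b : K0 S β => (⟨b.1 * b.1, K0_mul β b.2 b.2⟩ : K0 S β)) := by
      rintro ⟨a, ha⟩ ⟨b, hb⟩ h
      have h1 : a * a = b * b := congrArg Subtype.val h
      apply Subtype.ext
      show a = b
      have hab := comm_K ha.1 hb.1
      have h3 : (a - b) * (a - b) = 0 := by
        rw [sub_mul, mul_sub, mul_sub, ← hab, h1]
        have h4 : (2 : ℕ) • (b * b - a * b) = 0 := by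
          ext y
          show (2 : ℕ) • ((b * b - a * b) y) = 0
          exact hp _
        rw [two_nsmul] at h4
        rw [← h4]
        abel
      rcases K_eq_zero_or hirr (sub_mem ha.1 hb.1) h3 with h | h <;> exact sub_eq_zero.1 h
    have hsurj := Finite.surjective_of_injective hinj
    obtain ⟨b, hb⟩ := hsurj ⟨c, hc⟩
    have hb' : b.1 * b.1 = c := congrArg Subtype.val hb
    rw [← hb']
    show β x (b.1 (b.1 x)) = 0
    rw [← b.2.2]
    exact alt _
  · have hcop : Nat.Coprime 2 p := (Nat.coprime_primes Nat.prime_two hpp.out).2 (Ne.symm hp2)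
    have h3 : addOrderOf (β x (c x)) ∣ Nat.gcd 2 p :=
      Nat.dvd_gcd (addOrderOf_dvd_of_nsmul_eq_zero h2) (addOrderOf_dvd_of_nsmul_eq_zero (hW _ _))
    rw [hcop, Nat.dvd_one, AddMonoid.addOrderOf_eq_one_iff] at h3
    exact h3

include alt inv hβ hp in
/-- **The irreducible case.** -/
theorem exists_iso : ∃ (Y : AddSubgroup V) (f : ℕ), 1 ≤ f ∧ Nat.card Y = p ^ f ∧ (∀ x ∈ Y, ∀ y ∈ Y, β x y = 0) ∧
    Nat.card (Set.range (fun s : S => (en s : AddMonoid.End V))) ≤ p ^ f + 1 := by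
  classical
  have hfin : Finite (AddMonoid.End V) := Finite.of_injective (fun f : AddMonoid.End V => (f : V → V)) DFunLike.coe_injective
  -- the vector
  obtain ⟨m, m', hmm⟩ := hβ
  have hβ : ∃ x y, β x y ≠ 0 := ⟨m, m', hmm⟩
  have hm0 : m ≠ 0 := by
    rintro rfl
    apply hmm
    simp
  have hnt : Nontrivial V := ⟨m, 0, hm0⟩
  let evm : AddMonoid.End V →+ V := { toFun := fun k => k m, map_zero' := rfl, map_add' := fun _ _ => rfl }
  have hinj : ∀ k ∈ KK S V, k m = 0 → k = 0 := by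
    intro k hk h
    by_contra h0
    exact hm0 (K_inj hirr hk h0 h)
  have hone : (1 : AddMonoid.End V) ∈ K0 S β := ⟨one_mem _, fun x y => rfl⟩
  have hne : (1 : AddMonoid.End V) ≠ 0 := by
    intro h
    exact hm0 (DFunLike.congr_fun h m)
  -- not everything is self-adjoint
  obtain ⟨a, haK, ha0⟩ : ∃ a ∈ KK S V, a ∉ K0 S β := by
    by_contra hcon
    push Not at hcon
    have htop : (KK S V).toAddSubgroup.map evm = ⊤ := by
      rcases hirr ((KK S V).toAddSubgroup.map evm) (by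
        rintro s _ ⟨k, hk, rfl⟩
        have hk' : k ∈ KK S V := hk
        have hm' : en s * k ∈ KK S V := mul_mem (en_mem s) hk'
        exact ⟨en s * k, hm', rfl⟩) with h | h
      · exfalso
        have h1 : m ∈ (KK S V).toAddSubgroup.map evm := ⟨1, one_mem (KK S V), rfl⟩
        rw [h] at h1
        exact hm0 (AddSubgroup.mem_bot.1 h1)
      · exact h
    obtain ⟨k, hk, hkm⟩ : m' ∈ (KK S V).toAddSubgroup.map evm := by rw [htop]; trivial
    apply hmm
    have h1 : k m = m' := hkm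
    rw [← h1]
    exact self_iso hirr β alt hp (hcon k hk) m
  -- the adjoint
  have hadj : ∀ k : KK S V, ∃ l : KK S V, Adj β k.1 l.1 ∧ Adj β l.1 k.1 := by
    rintro ⟨k, hk⟩
    obtain ⟨l, hl, h1, h2⟩ := exists_adj β inv hk
    exact ⟨⟨l, hl⟩, h1, h2⟩
  choose τ hτ hτ' using hadj
  have huniq : ∀ {k l l' : AddMonoid.End V}, Adj β k l → Adj β k l' → l = l' :=
    fun h1 h2 => adj_unique hirr β inv hβ h1 h2
  have τadd : ∀ k l, τ (k + l) = τ k + τ l := by
    intro k l
    apply Subtype.ext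
    refine huniq (hτ _) fun x y => ?_
    show β (k.1 x + l.1 x) y = β x ((τ k).1 y + (τ l).1 y)
    rw [map_add, AddMonoidHom.add_apply, map_add, hτ k, hτ l]
  have τmul : ∀ k l, τ (k * l) = τ k * τ l := by
    intro k l
    apply Subtype.ext
    refine huniq (hτ _) fun x y => ?_
    have h1 : (τ k).1 ((τ l).1 y) = (τ l).1 ((τ k).1 y) := DFunLike.congr_fun (comm_K (τ k).2 (τ l).2) y
    show β (k.1 (l.1 x)) y = β x ((τ k).1 ((τ l).1 y))
    rw [hτ k, hτ l, h1]
  have ττ : ∀ k, τ (τ k) = k := by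
    intro k
    apply Subtype.ext
    exact huniq (hτ (τ k)) (hτ' k)
  have τ0 : ∀ k : KK S V, k.1 ∈ K0 S β ↔ τ k = k := by
    intro k
    constructor
    · intro h
      exact Subtype.ext (huniq (hτ k) h.2)
    · intro h
      refine ⟨k.2, ?_⟩
      have := hτ k
      rw [h] at this
      exact this
  have hdom : ∀ k l : KK S V, k * l = 0 → k = 0 ∨ l = 0 := by
    intro k l h
    rcases K_eq_zero_or hirr k.2 (congrArg Subtype.val h) with h | h
    · exact Or.inl (Subtype.ext h)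
    · exact Or.inr (Subtype.ext h)
  have hcomm : ∀ k l : KK S V, k * l = l * k := fun k l => Subtype.ext (comm_K k.2 l.2)
  have τsub : ∀ k l, τ (k - l) = τ k - τ l := by
    intro k l
    have := τadd (k - l) l
    rw [sub_add_cancel] at this
    rw [this, add_sub_cancel_right]
  have τz : τ 0 = 0 := by
    have := τadd 0 0
    rw [add_zero] at this
    exact left_eq_add.1 this
  -- cardinality of `K`
  have hK0fin : Finite (K0 S β) := inferInstance
  set a' : KK S V := ⟨a, haK⟩ with ha'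
  have hane : τ a' ≠ a' := fun h => ha0 ((τ0 a').2 h)
  have hK : Nat.card (KK S V) ≤ Nat.card (K0 S β) * Nat.card (K0 S β) := by
    rw [← Nat.card_prod]
    have hm1 : ∀ z : KK S V, ((z + τ z).1 :) ∈ K0 S β := by
      intro z
      rw [τ0, τadd, ττ, add_comm]
    refine Nat.card_le_card_of_injective
      (fun z : KK S V => ((⟨(z + τ z).1, hm1 z⟩ : K0 S β), (⟨((a' * z + τ (a' * z)).1 :), hm1 _⟩ : K0 S β))) ?_
    intro z w h
    have h1 : z + τ z = w + τ w := Subtype.ext (congrArg (fun q : K0 S β × K0 S β => q.1.1) h)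
    have h2 : a' * z + τ (a' * z) = a' * w + τ (a' * w) :=
      Subtype.ext (congrArg (fun q : K0 S β × K0 S β => q.2.1) h)
    set u := z - w with hu
    have h3 : τ u = - u := by
      rw [hu, τsub]
      have : τ z - τ w = -(z - w) + ((z + τ z) - (w + τ w)) := by abel
      rw [this, h1, sub_self, add_zero]
    have h4 : a' * u + τ (a' * u) = 0 := by
      rw [hu, mul_sub, τsub]
      have : a' * z - a' * w + (τ (a' * z) - τ (a' * w)) = (a' * z + τ (a' * z)) - (a' * w + τ (a' * w)) := by abel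
      rw [this, h2, sub_self]
    rw [τmul, h3, mul_neg, ← sub_eq_add_neg, ← sub_mul] at h4
    rcases hdom _ _ h4 with h5 | h5
    · exact absurd (sub_eq_zero.1 h5).symm hane
    · exact sub_eq_zero.1 h5
  -- Hilbert 90
  have hH : ∀ s : Set.range (fun s : S => (en s : AddMonoid.End V)), ∃ y : KK S V, y ≠ 0 ∧
      (τ y).1 * s.1 = y.1 := by
    rintro ⟨_, ⟨s, rfl⟩⟩
    have hs1 : τ ⟨en s, en_mem s⟩ = ⟨en s⁻¹, en_mem _⟩ := by
      apply Subtype.ext
      refine huniq (hτ _) fun x y => ?_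
      have := inv s x (s⁻¹ • y)
      rw [smul_inv_smul] at this
      exact this
    have hss : (⟨en s⁻¹, en_mem _⟩ : KK S V) * ⟨en s, en_mem s⟩ = 1 := by
      apply Subtype.ext
      show en s⁻¹ * en s = 1
      rw [← en_mul, inv_mul_cancel, en_one]
    have τone : τ 1 = 1 := (τ0 1).1 hone
    by_cases h1 : (1 : KK S V) + ⟨en s, en_mem s⟩ = 0
    · refine ⟨a' - τ a', sub_ne_zero.2 (Ne.symm hane), ?_⟩
      have h2 : (⟨en s, en_mem s⟩ : KK S V) = -1 := eq_neg_of_add_eq_zero_right h1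
      have h3 : τ (a' - τ a') * ⟨en s, en_mem s⟩ = a' - τ a' := by
        rw [h2, τsub, ττ, mul_neg, mul_one, neg_sub]
      exact congrArg Subtype.val h3
    · refine ⟨1 + ⟨en s, en_mem s⟩, h1, ?_⟩
      have h3 : τ (1 + ⟨en s, en_mem s⟩) * ⟨en s, en_mem s⟩ = 1 + ⟨en s, en_mem s⟩ := by
        rw [τadd, τone, hs1, add_mul, hss, one_mul, add_comm]
      exact congrArg Subtype.val h3
  choose y hy0 hys using hH
  have hcount : Nat.card (Set.range (fun s : S => (en s : AddMonoid.End V))) * (Nat.card (K0 S β) - 1) ≤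
      Nat.card (KK S V) - 1 := by
    have e1 : Nat.card {c : K0 S β // c ≠ 0} = Nat.card (K0 S β) - 1 := by
      have := Fintype.ofFinite (K0 S β)
      rw [Nat.card_eq_fintype_card, Nat.card_eq_fintype_card, Fintype.card_subtype_compl, Fintype.card_subtype_eq]
    have e2 : Nat.card {c : KK S V // c ≠ 0} = Nat.card (KK S V) - 1 := by
      have := Fintype.ofFinite (KK S V)
      rw [Nat.card_eq_fintype_card, Nat.card_eq_fintype_card, Fintype.card_subtype_compl, Fintype.card_subtype_eq]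
    rw [← e1, ← e2, ← Nat.card_prod]
    have hc0 : ∀ c : {c : K0 S β // c ≠ 0}, (⟨c.1.1, c.1.2.1⟩ : KK S V) ≠ 0 := by
      intro c h
      have h' : (c.1.1 : AddMonoid.End V) = 0 := congrArg Subtype.val h
      exact c.2 (Subtype.ext h')
    refine Nat.card_le_card_of_injective (fun q : (Set.range (fun s : S => (en s : AddMonoid.End V))) ×
      {c : K0 S β // c ≠ 0} => (⟨⟨q.2.1.1, q.2.1.2.1⟩ * y q.1, fun h => ?_⟩ : {c : KK S V // c ≠ 0})) ?_
    · rcases hdom _ _ h with h | h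
      · exact hc0 _ h
      · exact hy0 _ h
    · rintro ⟨s, c⟩ ⟨t, d⟩ h
      have h1 : (⟨c.1.1, c.1.2.1⟩ : KK S V) * y s = ⟨d.1.1, d.1.2.1⟩ * y t :=
        congrArg (fun z : {c : KK S V // c ≠ 0} => z.1) h
      have hcc : τ ⟨c.1.1, c.1.2.1⟩ = ⟨c.1.1, c.1.2.1⟩ := (τ0 _).1 c.1.2
      have hdd : τ ⟨d.1.1, d.1.2.1⟩ = ⟨d.1.1, d.1.2.1⟩ := (τ0 _).1 d.1.2
      have h2 : (⟨c.1.1, c.1.2.1⟩ : KK S V) * τ (y s) = ⟨d.1.1, d.1.2.1⟩ * τ (y t) := by
        have := congrArg τ h1
        rwa [τmul, τmul, hcc, hdd] at this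
      have hsK : s.1 ∈ KK S V := by obtain ⟨s', hs'⟩ := s.2; rw [← hs']; exact en_mem s'
      have htK : t.1 ∈ KK S V := by obtain ⟨s', hs'⟩ := t.2; rw [← hs']; exact en_mem s'
      have h3 : (⟨c.1.1, c.1.2.1⟩ : KK S V) * τ (y s) * (⟨s.1, hsK⟩ - ⟨t.1, htK⟩) = 0 := by
        have e1 : (⟨c.1.1, c.1.2.1⟩ : KK S V) * τ (y s) * ⟨s.1, hsK⟩ = ⟨c.1.1, c.1.2.1⟩ * y s := by
          rw [mul_assoc]
          congr 1
          exact Subtype.ext (hys s)
        have e2 : (⟨d.1.1, d.1.2.1⟩ : KK S V) * τ (y t) * ⟨t.1, htK⟩ = ⟨d.1.1, d.1.2.1⟩ * y t := by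
          rw [mul_assoc]
          congr 1
          exact Subtype.ext (hys t)
        rw [mul_sub, e1, h2, e2, h1, sub_self]
      have hst : s = t := by
        rcases hdom _ _ h3 with h4 | h4
        · exfalso
          rcases hdom _ _ h4 with h5 | h5
          · exact hc0 _ h5
          · apply hy0 s
            rw [← ττ (y s), h5, τz]
        · have h7 : (⟨s.1, hsK⟩ : KK S V) = ⟨t.1, htK⟩ := sub_eq_zero.1 h4
          have h6 : (s.1 : AddMonoid.End V) = t.1 := congrArg (fun z : KK S V => z.1) h7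
          exact Subtype.ext h6
      subst hst
      have h5 : (⟨c.1.1, c.1.2.1⟩ - ⟨d.1.1, d.1.2.1⟩ : KK S V) * y s = 0 := by
        rw [sub_mul, h1, sub_self]
      rcases hdom _ _ h5 with h6 | h6
      · have h9 : (⟨c.1.1, c.1.2.1⟩ : KK S V) = ⟨d.1.1, d.1.2.1⟩ := sub_eq_zero.1 h6
        have h8 : (c.1.1 : AddMonoid.End V) = d.1.1 := congrArg (fun z : KK S V => z.1) h9
        have h7 : c = d := Subtype.ext (Subtype.ext h8)
        rw [h7]
      · exact absurd h6 (hy0 s)
  -- the order of `K₀`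
  have hK0p : IsPGroup p (Multiplicative (K0 S β)) := by
    intro g
    refine ⟨1, ?_⟩
    rw [pow_one]
    show Multiplicative.ofAdd (p • Multiplicative.toAdd g) = 1
    have : p • Multiplicative.toAdd g = 0 := by
      apply Subtype.ext
      ext x
      exact hp _
    rw [this]
    rfl
  obtain ⟨f, hf⟩ := IsPGroup.iff_card.1 hK0p
  have hcard : Nat.card (K0 S β) = p ^ f := hf
  have hf1 : 1 ≤ f := by
    by_contra h
    have h0 : f = 0 := by omega
    rw [h0, pow_zero] at hcard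
    have hsub : Subsingleton (K0 S β) := (Nat.card_eq_one_iff_unique.1 hcard).1
    exact hne (congrArg Subtype.val (hsub.elim (⟨1, hone⟩ : K0 S β) 0))
  refine ⟨(K0 S β).map evm, f, hf1, ?_, ?_, ?_⟩
  · rw [← hcard]
    refine (Nat.card_congr (Equiv.ofBijective (fun k : K0 S β => (⟨evm k.1, ⟨k.1, k.2, rfl⟩⟩ : (K0 S β).map evm)) ⟨?_, ?_⟩)).symm
    · intro k l h
      have h1 : k.1 m = l.1 m := congrArg Subtype.val h
      apply Subtype.ext
      have h2 := hinj (k.1 - l.1) (sub_mem k.2.1 l.2.1) (by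
        show k.1 m - l.1 m = 0
        rw [h1, sub_self])
      exact sub_eq_zero.1 h2
    · rintro ⟨_, ⟨k, hk, rfl⟩⟩
      exact ⟨⟨k, hk⟩, rfl⟩
  · rintro _ ⟨k, hk, rfl⟩ _ ⟨l, hl, rfl⟩
    show β (k m) (l m) = 0
    rw [hk.2]
    have := self_iso hirr β alt hp (K0_mul β hk hl) m
    exact this
  · -- count
    rw [← hcard]
    have h2 : 2 ≤ Nat.card (K0 S β) := by
      rw [hcard]
      calc 2 ≤ p := hpp.out.two_le
        _ = p ^ 1 := (pow_one p).symm
        _ ≤ p ^ f := Nat.pow_le_pow_right hpp.out.pos hf1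
    obtain ⟨c, hc⟩ : ∃ c, Nat.card (K0 S β) = c + 2 := ⟨_, (Nat.sub_add_cancel h2).symm⟩
    have h3 : Nat.card (Set.range (fun s : S => (en s : AddMonoid.End V))) * (Nat.card (K0 S β) - 1) ≤
        Nat.card (K0 S β) * Nat.card (K0 S β) - 1 := hcount.trans (Nat.sub_le_sub_right hK 1)
    rw [hc] at h3 ⊢
    have h4 : (c + 2) * (c + 2) - 1 = (c + 2 + 1) * (c + 1) := by
      have : (c + 2) * (c + 2) = (c + 2 + 1) * (c + 1) + 1 := by ring
      omega
    rw [h4] at h3
    exact Nat.le_of_mul_le_mul_right h3 (by omega)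

end Cfsg.Agent.H157.Ab.MixIrr
end

-- part: H157/Ab/MixForm
section
/-!
# Isotropic subgroups for coprime abelian groups of isometries, II: the general case (helper157)

`S` an abelian `p'`-group acting on the elementary abelian `p`-group `V`, preserving an alternating biadditive map: a
totally isotropic `Y ≤ V` with `|S / C_S(V)| ^ u ≤ |Y| ^ v`, if `(p ^ f + 1) ^ u ≤ p ^ (f v)` for all `f ≥ 1`.
-/

set_option autoImplicit false

namespace Cfsg.Agent.H157.Ab.MixForm

open Cfsg.Agent.H157.Ab.MixIrr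

section

variable {S V W : Type*} [CommGroup S] [AddCommGroup V] [AddCommGroup W] [DistribMulAction S V]

/-- the elements acting trivially on `U` -/
def Fx (S : Type*) [CommGroup S] [DistribMulAction S V] (U : AddSubgroup V) : Subgroup S where
  carrier := {s | ∀ x ∈ U, s • x = x}
  one_mem' := fun x _ => one_smul _ x
  mul_mem' := fun {a b} ha hb x hx => by rw [mul_smul, hb x hx, ha x hx]
  inv_mem' := fun {a} ha x hx => by rw [inv_smul_eq_iff, ha x hx]

variable [Finite S]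

/-- the sum over a subgroup -/
noncomputable def EE (T : Subgroup S) : V →+ V :=
  letI := Fintype.ofFinite T
  { toFun := fun x => ∑ t : T, (t : S) • x
    map_zero' := by simp only [_root_.smul_zero, _root_.Finset.sum_const_zero]
    map_add' := fun x y => by rw [← Finset.sum_add_distrib]; simp only [smul_add] }

theorem EE_apply (T : Subgroup S) [Fintype T] (x : V) : EE T x = ∑ t : T, (t : S) • x := by
  have h : Fintype.ofFinite T = ‹Fintype T› := Subsingleton.elim _ _
  subst h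
  rfl

theorem smul_EE (T : Subgroup S) {t : S} (ht : t ∈ T) (x : V) : t • EE T x = EE T x := by
  classical
  have := Fintype.ofFinite T
  rw [EE_apply, Finset.smul_sum]
  refine Fintype.sum_equiv (Equiv.mulLeft (⟨t, ht⟩ : T)) _ _ fun s => ?_
  rw [smul_smul]
  rfl

theorem EE_comm (T : Subgroup S) (s : S) (x : V) : EE T (s • x) = s • EE T x := by
  have := Fintype.ofFinite T
  rw [EE_apply, EE_apply, Finset.smul_sum]
  apply Finset.sum_congr rfl
  intro t _
  rw [smul_smul, smul_smul, mul_comm]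

theorem EE_fixed (T : Subgroup S) {x : V} (hx : ∀ t ∈ T, t • x = x) : EE T x = Nat.card T • x := by
  have := Fintype.ofFinite T
  rw [EE_apply, Finset.sum_congr rfl (fun (t : T) _ => hx (t : S) t.2), Finset.sum_const, Finset.card_univ,
    Nat.card_eq_fintype_card]

theorem EE_mem (T : Subgroup S) {U : AddSubgroup V} (hU : ∀ (s : S) (x : V), x ∈ U → s • x ∈ U) {x : V}
    (hx : x ∈ U) : EE T x ∈ U := by
  have := Fintype.ofFinite T
  rw [EE_apply]
  exact AddSubgroup.sum_mem _ fun t _ => hU _ _ hx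

variable {p : ℕ} [hpp : Fact p.Prime] (hp : ∀ x : V, p • x = 0) (hS : ¬ p ∣ Nat.card S)

omit [DistribMulAction S V] [Finite S] in
include hp in
theorem eq_zero_of_nsmul {n : ℕ} (hn : ¬ p ∣ n) {x : V} (hx : n • x = 0) : x = 0 := by
  have h1 : addOrderOf x ∣ Nat.gcd n p :=
    Nat.dvd_gcd (addOrderOf_dvd_of_nsmul_eq_zero hx) (addOrderOf_dvd_of_nsmul_eq_zero (hp x))
  rw [((Nat.Prime.coprime_iff_not_dvd hpp.out).2 hn).symm, Nat.dvd_one, AddMonoid.addOrderOf_eq_one_iff] at h1
  exact h1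

omit [DistribMulAction S V] [Finite S] in
include hp in
theorem exists_inv {n : ℕ} (hn : ¬ p ∣ n) : ∃ c : ℕ, ∀ x : V, c • (n • x) = x := by
  obtain ⟨c, hc⟩ := Nat.exists_mul_mod_eq_one_of_coprime ((Nat.Prime.coprime_iff_not_dvd hpp.out).2 hn).symm
    hpp.out.one_lt
  refine ⟨c, fun x => ?_⟩
  rw [smul_smul, mul_comm]
  have h2 : n * c = 1 + p * ((n * c) / p) := by
    conv_lhs => rw [← Nat.mod_add_div (n * c) p]
    rw [hc.2]
  rw [h2, add_smul, one_smul, mul_comm p, mul_smul, hp, smul_zero, add_zero]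

omit [Finite S] hpp in
theorem not_dvd_of_le (T : Subgroup S) (hS : ¬ p ∣ Nat.card S) : ¬ p ∣ Nat.card T :=
  fun h => hS (h.trans T.card_subgroup_dvd_card)

/-- the fixed part and the kernel of the sum -/
def U1 (T : Subgroup S) (U : AddSubgroup V) : AddSubgroup V where
  carrier := {x | x ∈ U ∧ ∀ t ∈ T, t • x = x}
  zero_mem' := ⟨zero_mem _, fun t _ => smul_zero t⟩
  add_mem' := fun {a b} ha hb => ⟨add_mem ha.1 hb.1, fun t ht => by rw [smul_add, ha.2 t ht, hb.2 t ht]⟩
  neg_mem' := fun {a} ha => ⟨neg_mem ha.1, fun t ht => by rw [smul_neg, ha.2 t ht]⟩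

noncomputable def U2 (T : Subgroup S) (U : AddSubgroup V) : AddSubgroup V where
  carrier := {x | x ∈ U ∧ EE T x = 0}
  zero_mem' := ⟨zero_mem _, map_zero _⟩
  add_mem' := fun {a b} ha hb => ⟨add_mem ha.1 hb.1, by rw [map_add, ha.2, hb.2, add_zero]⟩
  neg_mem' := fun {a} ha => ⟨neg_mem ha.1, by rw [map_neg, ha.2, neg_zero]⟩

include hp hS in
theorem exists_decomp (T : Subgroup S) {U : AddSubgroup V} (hU : ∀ (s : S) (x : V), x ∈ U → s • x ∈ U) {x : V}
    (hx : x ∈ U) : ∃ y ∈ U1 T U, ∃ z ∈ U2 T U, x = y + z := by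
  obtain ⟨c, hc⟩ := exists_inv hp (not_dvd_of_le T hS)
  refine ⟨c • EE T x, ⟨nsmul_mem (EE_mem T hU hx) c, fun t ht => ?_⟩, x - c • EE T x,
    ⟨sub_mem hx (nsmul_mem (EE_mem T hU hx) c), ?_⟩, by abel⟩
  · rw [smul_comm, smul_EE T ht]
  · rw [map_sub, map_nsmul, EE_fixed T (x := EE T x) (fun t ht => smul_EE T ht x), hc, sub_self]

include hp hS in
theorem U1_inf_U2 (T : Subgroup S) {U : AddSubgroup V} {x : V} (h1 : x ∈ U1 T U) (h2 : x ∈ U2 T U) : x = 0 := by
  have h3 := EE_fixed T h1.2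
  rw [h2.2] at h3
  exact eq_zero_of_nsmul hp (not_dvd_of_le T hS) h3.symm

omit [Finite S] in
theorem U1_inv (T : Subgroup S) {U : AddSubgroup V} (hU : ∀ (s : S) (x : V), x ∈ U → s • x ∈ U) (s : S) (x : V)
    (hx : x ∈ U1 T U) : s • x ∈ U1 T U :=
  ⟨hU s x hx.1, fun t ht => by rw [smul_smul, mul_comm, mul_smul, hx.2 t ht]⟩

theorem U2_inv (T : Subgroup S) {U : AddSubgroup V} (hU : ∀ (s : S) (x : V), x ∈ U → s • x ∈ U) (s : S) (x : V)
    (hx : x ∈ U2 T U) : s • x ∈ U2 T U :=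
  ⟨hU s x hx.1, by rw [EE_comm, hx.2, smul_zero]⟩

variable (β : V →+ V →+ W) (alt : ∀ x, β x x = 0) (inv : ∀ (s : S) (x y : V), β (s • x) (s • y) = β x y)

include hp hS inv in
theorem orth (T : Subgroup S) {U : AddSubgroup V} {x y : V} (h1 : x ∈ U1 T U) (h2 : y ∈ U2 T U) : β x y = 0 := by
  classical
  have := Fintype.ofFinite T
  have h3 : Nat.card T • β x y = 0 := by
    have h4 : β x (EE T y) = 0 := by rw [h2.2, map_zero]
    rw [EE_apply, map_sum] at h4
    rw [← h4, Nat.card_eq_fintype_card, ← Finset.card_univ, ← Finset.sum_const]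
    apply Finset.sum_congr rfl
    intro t _
    rw [← inv (t : S) x y, h1.2 t t.2]
  have h4 : p • β x y = 0 := by
    rw [← map_nsmul, hp, map_zero]
  have h1 : addOrderOf (β x y) ∣ Nat.gcd (Nat.card T) p :=
    Nat.dvd_gcd (addOrderOf_dvd_of_nsmul_eq_zero h3) (addOrderOf_dvd_of_nsmul_eq_zero h4)
  rw [((Nat.Prime.coprime_iff_not_dvd hpp.out).2 (not_dvd_of_le T hS)).symm, Nat.dvd_one,
    AddMonoid.addOrderOf_eq_one_iff] at h1
  exact h1

variable [Finite V]

include hp hS alt inv in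
theorem main_aux {u v : ℕ} (huv : u ≤ v) (huv' : ∀ f, 1 ≤ f → (p ^ f + 1) ^ u ≤ p ^ (f * v)) (n : ℕ) :
    ∀ U : AddSubgroup V, Nat.card U = n → (∀ (s : S) (x : V), x ∈ U → s • x ∈ U) →
      ∃ Y : AddSubgroup V, Y ≤ U ∧ (∀ x ∈ Y, ∀ y ∈ Y, β x y = 0) ∧ (Fx S U).index ^ u ≤ Nat.card Y ^ v := by
  classical
  induction n using Nat.strong_induction_on with
  | _ n ih =>
  intro U hn hU
  by_cases htop : Fx S U = ⊤
  · refine ⟨⊥, bot_le, fun x hx y _ => ?_, ?_⟩
    · rw [AddSubgroup.mem_bot.1 hx, map_zero, AddMonoidHom.zero_apply]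
    · rw [htop, Subgroup.index_top, one_pow]
      exact Nat.one_le_pow _ _ Nat.card_pos
  -- a minimal submodule
  obtain ⟨M, ⟨hMU, hMinv, hMtop⟩, hMmin⟩ : ∃ M : AddSubgroup V, (M ≤ U ∧ (∀ (s : S) (x : V), x ∈ M → s • x ∈ M) ∧
      Fx S M ≠ ⊤) ∧ ∀ M' : AddSubgroup V, (M' ≤ U ∧ (∀ (s : S) (x : V), x ∈ M' → s • x ∈ M') ∧ Fx S M' ≠ ⊤) →
      Nat.card M ≤ Nat.card M' := by
    have hfs : Finite (AddSubgroup V) := inferInstance
    obtain ⟨M, hM, hMm⟩ := Set.exists_min_image
      {M : AddSubgroup V | M ≤ U ∧ (∀ (s : S) (x : V), x ∈ M → s • x ∈ M) ∧ Fx S M ≠ ⊤}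
      (fun M => Nat.card M) (Set.toFinite _) ⟨U, le_rfl, hU, htop⟩
    exact ⟨M, hM, hMm⟩
  -- irreducible
  have hUM2 : U2 (⊤ : Subgroup S) M = M := by
    have h1 : U2 (⊤ : Subgroup S) M ≤ M := fun x hx => hx.1
    by_contra hne
    have h2 : Fx S (U2 (⊤ : Subgroup S) M) = ⊤ := by
      by_contra h3
      have h4 := hMmin (U2 (⊤ : Subgroup S) M) ⟨h1.trans hMU, U2_inv _ hMinv, h3⟩
      exact hne (AddSubgroup.eq_of_le_of_card_ge h1 h4)
    apply hMtop
    rw [eq_top_iff]
    intro s _ x hx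
    obtain ⟨y, hy, z, hz, rfl⟩ := exists_decomp hp hS ⊤ hMinv hx
    have h5 : s ∈ Fx S (U2 (⊤ : Subgroup S) M) := by rw [h2]; trivial
    rw [smul_add, hy.2 s trivial, h5 z hz]
  have hirr : ∀ N : AddSubgroup V, N ≤ M → (∀ (s : S) (x : V), x ∈ N → s • x ∈ N) → N = ⊥ ∨ N = M := by
    intro N hNM hN
    by_cases h1 : Fx S N = ⊤
    · left
      rw [eq_bot_iff]
      intro x hx
      rw [AddSubgroup.mem_bot]
      refine U1_inf_U2 hp hS (⊤ : Subgroup S) (U := M) ⟨hNM hx, fun t _ => ?_⟩ (by rw [hUM2]; exact hNM hx)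
      have h2 : t ∈ Fx S N := by rw [h1]; trivial
      exact h2 x hx
    · right
      exact AddSubgroup.eq_of_le_of_card_ge hNM (hMmin N ⟨hNM.trans hMU, hN, h1⟩)
  have hM0 : ∃ m ∈ M, m ≠ 0 := by
    by_contra hcon
    push Not at hcon
    apply hMtop
    rw [eq_top_iff]
    intro s _ x hx
    rw [hcon x hx, smul_zero]
  set T := Fx S M with hT
  -- isotropic part of `M`
  obtain ⟨Y1, hY1M, hY1, hY1c⟩ : ∃ Y : AddSubgroup V, Y ≤ M ∧ (∀ x ∈ Y, ∀ y ∈ Y, β x y = 0) ∧
      T.index ^ u ≤ Nat.card Y ^ v := by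
    by_cases hiso : ∀ x ∈ M, ∀ y ∈ M, β x y = 0
    · refine ⟨M, le_rfl, hiso, ?_⟩
      obtain ⟨m, hm, hm0⟩ := hM0
      -- the stabiliser of `m`
      have h1 : MulAction.stabilizer S m = T := by
        apply le_antisymm
        · intro s hs x hx
          have hN : {x | x ∈ M ∧ s • x = x} = ((U1 (Subgroup.zpowers s) M : AddSubgroup V) : Set V) := by
            ext z
            constructor
            · rintro ⟨h1, h2⟩
              refine ⟨h1, fun t ht => ?_⟩
              have h3 : Subgroup.zpowers s ≤ MulAction.stabilizer S z := by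
                rw [Subgroup.zpowers_le]
                exact h2
              exact h3 ht
            · rintro ⟨h1, h2⟩
              exact ⟨h1, h2 s (Subgroup.mem_zpowers s)⟩
          rcases hirr (U1 (Subgroup.zpowers s) M) (fun z hz => hz.1) (U1_inv _ hMinv) with h | h
          · exfalso
            have h2 : m ∈ U1 (Subgroup.zpowers s) M := by
              have : m ∈ {x | x ∈ M ∧ s • x = x} := ⟨hm, hs⟩
              rw [hN] at this
              exact this
            rw [h] at h2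
            exact hm0 (AddSubgroup.mem_bot.1 h2)
          · have h2 : x ∈ U1 (Subgroup.zpowers s) M := by rw [h]; exact hx
            exact h2.2 s (Subgroup.mem_zpowers s)
        · intro s hs
          exact hs m hm
      have h2 : T.index ≤ Nat.card M := by
        rw [← h1, MulAction.index_stabilizer]
        have h3 : MulAction.orbit S m ⊆ (M : Set V) := by
          rintro _ ⟨s, rfl⟩
          exact hMinv s m hm
        exact Set.ncard_le_ncard h3 (Set.toFinite _) 
      calc T.index ^ u ≤ Nat.card M ^ u := Nat.pow_le_pow_left h2 u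
        _ ≤ Nat.card M ^ v := Nat.pow_le_pow_right Nat.card_pos huv
    · push Not at hiso
      obtain ⟨a, ha, b, hb, hab⟩ := hiso
      letI : DistribMulAction S M :=
        { smul := fun s x => ⟨s • x.1, hMinv s x.1 x.2⟩
          one_smul := fun x => Subtype.ext (one_smul S x.1)
          mul_smul := fun s t x => Subtype.ext (mul_smul s t x.1)
          smul_zero := fun s => Subtype.ext (smul_zero s)
          smul_add := fun s x y => Subtype.ext (smul_add s x.1 y.1) }
      have hsm : ∀ (s : S) (x : M), ((s • x : M) : V) = s • (x : V) := fun s x => rfl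
      obtain ⟨Y, f, hf, hYf, hYi, hYc⟩ := MixIrr.exists_iso (S := S) (V := M) (W := W) (p := p) (fun N hN => by
        rcases hirr (N.map M.subtype) (by
          rintro _ ⟨x, -, rfl⟩
          exact x.2) (by
          rintro s _ ⟨x, hx, rfl⟩
          exact ⟨s • x, hN s x hx, rfl⟩) with h | h
        · left
          rw [eq_bot_iff]
          intro x hx
          have h1 : (x : V) ∈ N.map M.subtype := ⟨x, hx, rfl⟩
          rw [h] at h1
          rw [AddSubgroup.mem_bot]
          exact Subtype.ext (AddSubgroup.mem_bot.1 h1)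
        · right
          rw [eq_top_iff]
          intro x _
          have h1 : (x : V) ∈ N.map M.subtype := by rw [h]; exact x.2
          obtain ⟨y, hy, hyx⟩ := h1
          have : y = x := Subtype.ext hyx
          rw [← this]
          exact hy) ((β.comp M.subtype).compl₂ M.subtype) (fun x => alt x.1)
        (fun s x y => inv s x.1 y.1) ⟨⟨a, ha⟩, ⟨b, hb⟩, hab⟩ (fun x => Subtype.ext (hp x.1))
      refine ⟨Y.map M.subtype, ?_, ?_, ?_⟩
      · rintro _ ⟨x, -, rfl⟩
        exact x.2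
      · rintro _ ⟨x, hx, rfl⟩ _ ⟨y, hy, rfl⟩
        exact hYi x hx y hy
      · have h1 : Nat.card (Y.map M.subtype) = Nat.card Y :=
          Nat.card_congr (AddSubgroup.equivMapOfInjective Y M.subtype Subtype.val_injective).symm.toEquiv
        have h2 : T.index ≤ Nat.card (Set.range (fun s : S => (en s : AddMonoid.End M))) := by
          rw [Subgroup.index]
          let F : (S ⧸ T) → Set.range (fun s : S => (en s : AddMonoid.End M)) :=
            Quotient.lift (fun s => (⟨en s, ⟨s, rfl⟩⟩ : Set.range (fun s : S => (en s : AddMonoid.End M))))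
              (by
                intro s t hst
                have h3 : s⁻¹ * t ∈ T := QuotientGroup.leftRel_apply.1 hst
                apply Subtype.ext
                ext x
                show s • (x : V) = t • (x : V)
                have h4 := h3 x x.2
                rw [mul_smul, inv_smul_eq_iff] at h4
                exact h4.symm)
          refine Nat.card_le_card_of_injective F ?_
          intro q r
          refine Quotient.inductionOn₂ q r fun s t h => ?_
          have h3 : (en s : AddMonoid.End M) = en t := congrArg Subtype.val h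
          apply Quotient.sound
          refine QuotientGroup.leftRel_apply.2 ?_
          intro x hx
          rw [mul_smul, inv_smul_eq_iff]
          have h4 := DFunLike.congr_fun h3 ⟨x, hx⟩
          exact (congrArg Subtype.val h4).symm
        rw [h1, hYf, ← pow_mul]
        exact (Nat.pow_le_pow_left (h2.trans hYc) u).trans (huv' f hf)
  -- the rest
  have hU2lt : Nat.card (U2 T U) < n := by
    rw [← hn]
    by_contra hge
    push Not at hge
    have h1 : U2 T U = U := AddSubgroup.eq_of_le_of_card_ge (fun x hx => hx.1) hge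
    obtain ⟨m, hm, hm0⟩ := hM0
    apply hm0
    exact U1_inf_U2 hp hS T (U := U) ⟨hMU hm, fun t ht => ht m hm⟩ (by rw [h1]; exact hMU hm)
  obtain ⟨Y2, hY2U, hY2, hY2c⟩ := ih _ hU2lt (U2 T U) rfl (U2_inv T hU)
  have hY1U : Y1 ≤ U1 T U := fun x hx => ⟨hMU (hY1M hx), fun t ht => ht x (hY1M hx)⟩
  refine ⟨Y1 ⊔ Y2, sup_le (hY1M.trans hMU) (hY2U.trans fun x hx => hx.1), ?_, ?_⟩
  · intro x hx y hy
    obtain ⟨x1, hx1, x2, hx2, rfl⟩ := AddSubgroup.mem_sup.1 hx
    obtain ⟨y1, hy1, y2, hy2, rfl⟩ := AddSubgroup.mem_sup.1 hy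
    have e1 := orth hp hS β inv T (hY1U hx1) (hY2U hy2)
    have e2 : β x2 y1 = 0 := by
      rw [MixIrr.skew β alt, orth hp hS β inv T (hY1U hy1) (hY2U hx2), neg_zero]
    simp only [map_add, AddMonoidHom.add_apply, hY1 _ hx1 _ hy1, hY2 _ hx2 _ hy2, e1, e2, add_zero]
  · have h1 : Nat.card Y1 * Nat.card Y2 ≤ Nat.card (Y1 ⊔ Y2 : AddSubgroup V) := by
      rw [← Nat.card_prod]
      refine Nat.card_le_card_of_injective (fun q : Y1 × Y2 =>
        (⟨q.1.1 + q.2.1, AddSubgroup.add_mem_sup q.1.2 q.2.2⟩ : (Y1 ⊔ Y2 : AddSubgroup V))) ?_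
      rintro ⟨a, b⟩ ⟨c, d⟩ h
      have h2 : (a : V) + b = c + d := congrArg Subtype.val h
      have h3 : (a : V) - c = d - b := by
        rw [sub_eq_sub_iff_add_eq_add, h2, add_comm]
      have h4 : (a : V) - c = 0 := U1_inf_U2 hp hS T (U := U) (sub_mem (hY1U a.2) (hY1U c.2))
        (by rw [h3]; exact sub_mem (hY2U d.2) (hY2U b.2))
      have h5 : (d : V) - b = 0 := by rw [← h3, h4]
      exact Prod.ext (Subtype.ext (sub_eq_zero.1 h4)) (Subtype.ext (sub_eq_zero.1 h5).symm)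
    have h2 : T ⊓ Fx S (U2 T U) ≤ Fx S U := by
      rintro s ⟨hs1, hs2⟩ x hx
      obtain ⟨y, hy, z, hz, rfl⟩ := exists_decomp hp hS T hU hx
      rw [smul_add, hy.2 s hs1, hs2 z hz]
    have h3 : (Fx S U).index ≤ T.index * (Fx S (U2 T U)).index :=
      (Nat.le_of_dvd (Nat.pos_of_ne_zero Subgroup.index_ne_zero_of_finite) (Subgroup.index_dvd_of_le h2)).trans
        (Subgroup.index_inf_le)
    calc (Fx S U).index ^ u ≤ (T.index * (Fx S (U2 T U)).index) ^ u := Nat.pow_le_pow_left h3 u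
      _ = T.index ^ u * (Fx S (U2 T U)).index ^ u := mul_pow _ _ _
      _ ≤ Nat.card Y1 ^ v * Nat.card Y2 ^ v := Nat.mul_le_mul hY1c hY2c
      _ = (Nat.card Y1 * Nat.card Y2) ^ v := (mul_pow _ _ _).symm
      _ ≤ _ := Nat.pow_le_pow_left h1 v

include hp hS alt inv in
/-- **Isotropic subgroups.** -/
theorem exists_isotropic {u v : ℕ} (huv : u ≤ v) (huv' : ∀ f, 1 ≤ f → (p ^ f + 1) ^ u ≤ p ^ (f * v)) :
    ∃ Y : AddSubgroup V, (∀ x ∈ Y, ∀ y ∈ Y, β x y = 0) ∧ (Fx S (⊤ : AddSubgroup V)).index ^ u ≤ Nat.card Y ^ v := by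
  obtain ⟨Y, -, h1, h2⟩ := main_aux hp hS β alt inv huv huv' _ (⊤ : AddSubgroup V) rfl (fun _ _ _ => trivial)
  exact ⟨Y, h1, h2⟩

end

end Cfsg.Agent.H157.Ab.MixForm
end

-- part: H157/Ab/MixC
section
/-!
# The mixture lemma, the class two part (helper157)

* `card_mul_le` : `S`, `V` abelian, `S` normalises `V`, coprime: `|S| |C_V(S)| ≤ |V| |C_S(V)|`;
* `mix_D` : `S` an abelian `p'`-group acting faithfully on a `p`-group `D` of class `≤ 2` with `D/Z(D)` elementary
  abelian, `P ≤ Z(D)` centralised by `S`: an abelian `B ≤ D` with `(|P||S|) ^ v ≤ |B| ^ v |S| ^ (v - u)`.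
-/

set_option autoImplicit false

namespace Cfsg.Agent.H157.Ab.Mix

open Subgroup
open Cfsg.Agent.H157.Ab.MixForm

variable {G : Type*} [Group G] [Finite G]

theorem card_mul_le {S V : Subgroup G} (hS : ∀ x ∈ S, ∀ y ∈ S, x * y = y * x) (hV : ∀ x ∈ V, ∀ y ∈ V, x * y = y * x)
    (hSV : S ≤ normalizer (V : Set G)) (hcop : (Nat.card S).Coprime (Nat.card V)) :
    Nat.card S * Nat.card (V ⊓ centralizer (S : Set G) : Subgroup G) ≤
      Nat.card V * Nat.card (S ⊓ centralizer (V : Set G) : Subgroup G) := by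
  classical
  -- a vector with minimal stabiliser
  obtain ⟨w, hw, hmin⟩ := Set.exists_min_image (V : Set G)
    (fun w => Nat.card (S ⊓ centralizer ({w} : Set G) : Subgroup G)) (Set.toFinite _) ⟨1, V.one_mem⟩
  set T := S ⊓ centralizer ({w} : Set G) with hT
  have hTS : T ≤ S := inf_le_left
  have hTV : T ≤ normalizer (V : Set G) := hTS.trans hSV
  have hTcop : (Nat.card T).Coprime (Nat.card V) := Nat.Coprime.coprime_dvd_left (card_dvd_of_le hTS) hcop
  have hconjV : ∀ s ∈ S, ∀ x ∈ V, s * x * s⁻¹ ∈ V := fun s hs x hx =>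
    (mem_normalizer_iff.1 (hSV hs) x).1 hx
  have hTle : T ≤ centralizer (V : Set G) := by
    by_contra hne
    have h1 := CoprimeAb T V hV hTV hTcop
    have h2 : ⁅V, T⁆ ≠ ⊥ := by
      intro h
      apply hne
      rw [commutator_eq_bot_iff_le_centralizer] at h
      exact le_centralizer_iff.1 h
    have hVT : ⁅V, T⁆ ≤ V := by
      rw [commutator_le]
      intro x hx t ht
      rw [commutatorElement_def, mul_assoc, mul_assoc, ← mul_assoc t]
      exact mul_mem hx (hconjV t (hTS ht) _ (inv_mem hx))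
    obtain ⟨x, hx, hx1⟩ : ∃ x ∈ ⁅V, T⁆, x ≠ 1 := by
      by_contra hcon
      push Not at hcon
      exact h2 (eq_bot_iff.2 fun x hx => mem_bot.2 (hcon x hx))
    have hxV : x ∈ V := hVT hx
    -- the new vector
    have hle : S ⊓ centralizer ({w * x} : Set G) ≤ T ⊓ centralizer ({x} : Set G) := by
      rintro s ⟨hs, hsc'⟩
      have hsc : s * (w * x) = w * x * s := mem_centralizer_singleton_iff.1 hsc'
      -- components
      have hswV : w⁻¹ * (s * w * s⁻¹) ∈ V := mul_mem (inv_mem hw) (hconjV s hs w hw)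
      have hswT : w⁻¹ * (s * w * s⁻¹) ∈ centralizer (T : Set G) := by
        rw [mem_centralizer_iff]
        intro t ht
        have htw : t * w = w * t := mem_centralizer_singleton_iff.1 ht.2
        have hts : t * s = s * t := hS t (hTS ht) s hs
        have htw' : t * w⁻¹ = w⁻¹ * t := by
          rw [eq_inv_mul_iff_mul_eq, ← mul_assoc, ← htw, mul_inv_cancel_right]
        have hts' : t * s⁻¹ = s⁻¹ * t := by
          rw [eq_inv_mul_iff_mul_eq, ← mul_assoc, ← hts, mul_inv_cancel_right]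
        calc t * (w⁻¹ * (s * w * s⁻¹)) = (t * w⁻¹) * s * w * s⁻¹ := by group
          _ = w⁻¹ * (t * s) * w * s⁻¹ := by rw [htw']; group
          _ = w⁻¹ * s * (t * w) * s⁻¹ := by rw [hts]; group
          _ = w⁻¹ * s * w * (t * s⁻¹) := by rw [htw]; group
          _ = w⁻¹ * (s * w * s⁻¹) * t := by rw [hts']; group
      have hsx : x * (s * x * s⁻¹)⁻¹ ∈ ⁅V, T⁆ := by
        refine mul_mem hx (inv_mem ?_)
        -- `s` normalises `⁅V, T⁆`
        have h3 : ∀ y ∈ ⁅V, T⁆, s * y * s⁻¹ ∈ ⁅V, T⁆ := by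
          intro y hy
          have h4 : (⁅V, T⁆).map (MulAut.conj s).toMonoidHom ≤ ⁅V, T⁆ := by
            rw [map_commutator]
            apply commutator_mono
            · rintro _ ⟨z, hz, rfl⟩
              exact hconjV s hs z hz
            · rintro _ ⟨z, hz, rfl⟩
              show s * z * s⁻¹ ∈ T
              rw [hS s hs z (hTS hz), mul_inv_cancel_right]
              exact hz
          exact h4 ⟨y, hy, rfl⟩
        exact h3 x hx
      have heq : w⁻¹ * (s * w * s⁻¹) = x * (s * x * s⁻¹)⁻¹ := by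
        rw [eq_mul_inv_iff_mul_eq, mul_assoc, inv_mul_eq_iff_eq_mul]
        calc s * w * s⁻¹ * (s * x * s⁻¹) = s * (w * x) * s⁻¹ := by group
          _ = w * x := by rw [hsc, mul_inv_cancel_right]
      have h5 : w⁻¹ * (s * w * s⁻¹) = 1 := by
        have : w⁻¹ * (s * w * s⁻¹) ∈ (V ⊓ centralizer (T : Set G)) ⊓ ⁅V, T⁆ :=
          ⟨⟨hswV, hswT⟩, by rw [heq]; exact hsx⟩
        rw [h1] at this
        exact mem_bot.1 this
      have h6 : x * (s * x * s⁻¹)⁻¹ = 1 := by rw [← heq, h5]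
      have hsw : s * w = w * s := by
        rw [inv_mul_eq_one, eq_mul_inv_iff_mul_eq] at h5
        exact h5.symm
      have hsx' : s * x = x * s := by
        rw [mul_inv_eq_one, eq_mul_inv_iff_mul_eq] at h6
        exact h6.symm
      exact ⟨⟨hs, mem_centralizer_singleton_iff.2 hsw⟩, mem_centralizer_singleton_iff.2 hsx'⟩
    have hlt : T ⊓ centralizer ({x} : Set G) < T := by
      refine lt_of_le_of_ne inf_le_left fun h => hx1 ?_
      have h7 : x ∈ (V ⊓ centralizer (T : Set G)) ⊓ ⁅V, T⁆ := by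
        refine ⟨⟨hxV, mem_centralizer_iff.2 ?_⟩, hx⟩
        intro t ht
        have : t ∈ T ⊓ centralizer ({x} : Set G) := by rw [h]; exact ht
        exact mem_centralizer_singleton_iff.1 this.2
      rw [h1] at h7
      exact mem_bot.1 h7
    have h8 := hmin (w * x) (V.mul_mem hw hxV)
    have h9 : Nat.card (S ⊓ centralizer ({w * x} : Set G) : Subgroup G) < Nat.card T := by
      have h10 : S ⊓ centralizer ({w * x} : Set G) < T := lt_of_le_of_lt hle hlt
      exact Set.ncard_lt_ncard h10 (Set.toFinite _)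
    exact absurd h8 (not_le.2 h9)
  -- the injection
  have h1 := CoprimeAb S V hV hSV hcop
  have hinj : Nat.card (V ⊓ centralizer (S : Set G) : Subgroup G) * (T.subgroupOf S).index ≤ Nat.card V := by
    rw [Subgroup.index, ← Nat.card_prod]
    have hwd : ∀ s t : S, QuotientGroup.leftRel (T.subgroupOf S) s t →
        (s : G) * w * (s : G)⁻¹ = t * w * (t : G)⁻¹ := by
      intro s t hst
      have h3 : s⁻¹ * t ∈ T.subgroupOf S := QuotientGroup.leftRel_apply.1 hst
      have h4 : (s : G)⁻¹ * t * w = w * ((s : G)⁻¹ * t) := mem_centralizer_singleton_iff.1 h3.2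
      have h5 : (t : G) * w * (t : G)⁻¹ = s * (((s : G)⁻¹ * t * w) * (t : G)⁻¹) := by group
      rw [h5, h4]
      group
    let F : (V ⊓ centralizer (S : Set G) : Subgroup G) × (S ⧸ T.subgroupOf S) → V := fun q =>
      Quotient.lift (fun s : S => (⟨(q.1 : G) * ((s : G) * w * (s : G)⁻¹), mul_mem q.1.2.1 (hconjV s s.2 w hw)⟩ : V))
        (fun s t hst => Subtype.ext (by
          show (q.1 : G) * ((s : G) * w * (s : G)⁻¹) = (q.1 : G) * ((t : G) * w * (t : G)⁻¹)
          rw [hwd s t hst])) q.2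
    refine Nat.card_le_card_of_injective F ?_
    rintro ⟨c, q⟩ ⟨d, r⟩
    refine Quotient.inductionOn₂ q r fun s t h => ?_
    have h2 : (c : G) * ((s : G) * w * (s : G)⁻¹) = (d : G) * ((t : G) * w * (t : G)⁻¹) := congrArg Subtype.val h
    have hswV : (s : G) * w * (s : G)⁻¹ ∈ V := hconjV s s.2 w hw
    have htwV : (t : G) * w * (t : G)⁻¹ ∈ V := hconjV t t.2 w hw
    have h3 : (d : G)⁻¹ * c = ((t : G) * w * (t : G)⁻¹) * ((s : G) * w * (s : G)⁻¹)⁻¹ := by
      rw [eq_mul_inv_iff_mul_eq, mul_assoc, h2, inv_mul_cancel_left]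
    have h4 : ((t : G) * w * (t : G)⁻¹) * ((s : G) * w * (s : G)⁻¹)⁻¹ ∈ ⁅V, S⁆ := by
      have e1 : ∀ s : S, (s : G) * w * (s : G)⁻¹ * w⁻¹ ∈ ⁅V, S⁆ := by
        intro s
        have := commutator_mem_commutator s.2 hw
        rw [commutator_comm, commutatorElement_def] at this
        exact this
      have e2 : ((t : G) * w * (t : G)⁻¹) * ((s : G) * w * (s : G)⁻¹)⁻¹ =
          ((t : G) * w * (t : G)⁻¹ * w⁻¹) * ((s : G) * w * (s : G)⁻¹ * w⁻¹)⁻¹ := by group
      rw [e2]
      exact mul_mem (e1 t) (inv_mem (e1 s))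
    have h5 : (d : G)⁻¹ * c = 1 := by
      have : (d : G)⁻¹ * c ∈ (V ⊓ centralizer (S : Set G)) ⊓ ⁅V, S⁆ :=
        ⟨Subgroup.mul_mem _ (Subgroup.inv_mem _ d.2) c.2, by rw [SetLike.mem_coe, h3]; exact h4⟩
      rw [h1] at this
      exact mem_bot.1 this
    have h6 : c = d := Subtype.ext (inv_mul_eq_one.1 h5).symm
    subst h6
    have h7 : (s : G) * w * (s : G)⁻¹ = (t : G) * w * (t : G)⁻¹ := mul_left_cancel h2
    have h8 : (Quotient.mk _ s : S ⧸ T.subgroupOf S) = Quotient.mk _ t := by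
      apply Quotient.sound
      refine QuotientGroup.leftRel_apply.2 ?_
      refine ⟨(s⁻¹ * t).2, ?_⟩
      have h10 : (s : G)⁻¹ * t * w = w * ((s : G)⁻¹ * t) → ((s⁻¹ * t : S) : G) ∈ centralizer ({w} : Set G) := by
        intro h
        rw [mem_centralizer_singleton_iff]
        exact h
      refine h10 ?_
      have h9 : (s : G)⁻¹ * t * w = (s : G)⁻¹ * ((t : G) * w * (t : G)⁻¹) * t := by group
      rw [h9, ← h7]
      group
    rw [h8]
  have h2 : Nat.card (T.subgroupOf S) * (T.subgroupOf S).index = Nat.card S := card_mul_index _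
  have h3 : Nat.card (T.subgroupOf S) = Nat.card T := Nat.card_congr (subgroupOfEquivOfLe hTS).toEquiv
  have h4 : Nat.card T ≤ Nat.card (S ⊓ centralizer (V : Set G) : Subgroup G) :=
    card_le_of_le (le_inf hTS hTle)
  rw [← h2, h3]
  calc Nat.card T * (T.subgroupOf S).index * Nat.card (V ⊓ centralizer (S : Set G) : Subgroup G)
      = Nat.card T * (Nat.card (V ⊓ centralizer (S : Set G) : Subgroup G) * (T.subgroupOf S).index) := by ring
    _ ≤ Nat.card (S ⊓ centralizer (V : Set G) : Subgroup G) * Nat.card V := Nat.mul_le_mul h4 hinj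
    _ = _ := mul_comm _ _
where
  CoprimeAb (A V : Subgroup G) (hV : ∀ x ∈ V, ∀ y ∈ V, x * y = y * x)
    (hAV : A ≤ Subgroup.normalizer (V : Set G)) (hcop : (Nat.card A).Coprime (Nat.card V)) :
    (V ⊓ Subgroup.centralizer (A : Set G)) ⊓ ⁅V, A⁆ = ⊥ :=
    Cfsg.Agent.Lib.CoprimeAbelian.inf_commutator_eq_bot A V hV hAV hcop

end Cfsg.Agent.H157.Ab.Mix
end

-- part: H157/Ab/MixH
section
/-!
# The mixture lemma: class two `p`-groups (helper157)

* `mix_H` : `H` a `p`-group of class `≤ 2` with `H/Z(H)` elementary abelian, `S` an abelian `p'`-group acting faithfully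
  on `H` and trivially on `Z(H)`: an abelian `B ≤ H` with `|Z(H)| ^ v |S| ^ u ≤ |B| ^ v`.
-/

set_option autoImplicit false

namespace Cfsg.Agent.H157.Ab.MixH

open Subgroup
open scoped commutatorElement
open Cfsg.Agent.H157.Ab.MixForm

section

variable {H : Type*} [Group H] (hcl : ∀ x y : H, ⁅x, y⁆ ∈ center H)

/-- the commutator, as an element of the centre -/
def cm (x y : H) : center H := ⟨⁅x, y⁆, hcl x y⟩

theorem cm_mul_right (x y z : H) : cm hcl x (y * z) = cm hcl x y * cm hcl x z := by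
  apply Subtype.ext
  show ⁅x, y * z⁆ = ⁅x, y⁆ * ⁅x, z⁆
  have h1 : ⁅x, y * z⁆ = ⁅x, y⁆ * (y * ⁅x, z⁆ * y⁻¹) := by
    simp only [commutatorElement_def]; group
  have h2 : y * ⁅x, z⁆ * y⁻¹ = ⁅x, z⁆ := by
    rw [(mem_center_iff.1 (hcl x z)) y, mul_inv_cancel_right]
  rw [h1, h2]

theorem cm_mul_left (x y z : H) : cm hcl (x * y) z = cm hcl x z * cm hcl y z := by
  apply Subtype.ext
  show ⁅x * y, z⁆ = ⁅x, z⁆ * ⁅y, z⁆
  have h1 : ⁅x * y, z⁆ = (x * ⁅y, z⁆ * x⁻¹) * ⁅x, z⁆ := by
    simp only [commutatorElement_def]; group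
  have h2 : x * ⁅y, z⁆ * x⁻¹ = ⁅y, z⁆ := by
    rw [(mem_center_iff.1 (hcl y z)) x, mul_inv_cancel_right]
  rw [h1, h2]
  exact ((mem_center_iff.1 (hcl y z)) _).symm

/-- the quotient by the centre is commutative -/
@[reducible] def commQ (hcl : ∀ x y : H, ⁅x, y⁆ ∈ center H) : CommGroup (H ⧸ center H) :=
  { QuotientGroup.Quotient.group (center H) with
    mul_comm := by
      intro a b
      refine Quotient.inductionOn₂ a b fun x y => ?_
      show ((x * y : H) : H ⧸ center H) = ((y * x : H) : H ⧸ center H)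
      rw [QuotientGroup.eq]
      have h1 : (x * y)⁻¹ * (y * x) = ⁅y⁻¹, x⁻¹⁆ := by
        simp only [commutatorElement_def]; group
      rw [h1]
      exact hcl _ _ }

/-- the centre is commutative -/
@[reducible] def commZ (H : Type*) [Group H] : CommGroup (center H) :=
  { (inferInstance : Group (center H)) with
    mul_comm := fun a b => Subtype.ext ((mem_center_iff.1 b.2) a) }

/-- the commutator form -/
def form (hcl : ∀ x y : H, ⁅x, y⁆ ∈ center H) :
    letI := commQ hcl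
    letI := commZ H
    Additive (H ⧸ center H) →+ Additive (H ⧸ center H) →+ Additive (center H) :=
  letI := commQ hcl
  letI := commZ H
  let F1 : H → (H →* center H) := fun x => MonoidHom.mk' (fun y => cm hcl x y) (cm_mul_right hcl x)
  let F2 : H → ((H ⧸ center H) →* center H) := fun x => QuotientGroup.lift (center H) (F1 x) (by
    intro y hy
    apply Subtype.ext
    show ⁅x, y⁆ = 1
    rw [commutatorElement_eq_one_iff_mul_comm]
    exact (mem_center_iff.1 hy) x)
  let F3 : H →* ((H ⧸ center H) →* center H) := MonoidHom.mk' F2 (by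
    intro x y
    refine MonoidHom.ext fun q => ?_
    refine Quotient.inductionOn q fun z => ?_
    exact cm_mul_left hcl x y z)
  let F4 : (H ⧸ center H) →* ((H ⧸ center H) →* center H) := QuotientGroup.lift (center H) F3 (by
    intro x hx
    refine MonoidHom.ext fun q => ?_
    refine Quotient.inductionOn q fun z => ?_
    apply Subtype.ext
    show ⁅x, z⁆ = 1
    rw [commutatorElement_eq_one_iff_mul_comm]
    exact ((mem_center_iff.1 hx) z).symm)
  AddMonoidHom.mk' (fun x => MonoidHom.toAdditive (F4 x.toMul)) (by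
    intro x y
    refine AddMonoidHom.ext fun q => ?_
    show Additive.ofMul ((F4 (x.toMul * y.toMul)) q.toMul) = _
    rw [map_mul]
    rfl)

end

section

variable {H : Type*} [Group H] [Finite H] {S : Type*} [CommGroup S] [Finite S]

/-- **Mixture, class two.** -/
theorem mix_H (hcl : ∀ x y : H, ⁅x, y⁆ ∈ center H) {p : ℕ} [hpp : Fact p.Prime] (hH : IsPGroup p H)
    (hpow : ∀ x : H, x ^ p ∈ center H) (hS : ¬ p ∣ Nat.card S) (e : S →* MulAut H) (he : Function.Injective e)
    (hez : ∀ s, ∀ z ∈ center H, e s z = z) {u v : ℕ} (huv : u ≤ v)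
    (huv' : ∀ f, 1 ≤ f → (p ^ f + 1) ^ u ≤ p ^ (f * v)) :
    ∃ B : Subgroup H, (∀ x ∈ B, ∀ y ∈ B, x * y = y * x) ∧ Nat.card (center H) ^ v * Nat.card S ^ u ≤ Nat.card B ^ v := by
  classical
  letI := commQ hcl
  letI := commZ H
  have hmap : ∀ s : S, center H ≤ (center H).comap (e s).toMonoidHom := by
    intro s z hz
    rw [mem_comap]
    show e s z ∈ center H
    rw [hez s z hz]
    exact hz
  let qa : S → (H ⧸ center H) →* (H ⧸ center H) := fun s => QuotientGroup.map (center H) (center H) (e s).toMonoidHom (hmap s)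
  have hqa : ∀ (s : S) (x : H), qa s (x : H ⧸ center H) = ((e s x : H) : H ⧸ center H) := fun s x => rfl
  letI : DistribMulAction S (Additive (H ⧸ center H)) :=
    { smul := fun s x => Additive.ofMul (qa s x.toMul)
      one_smul := by
        intro x
        refine Quotient.inductionOn (x.toMul) (motive := fun q => Additive.ofMul (qa 1 q) = Additive.ofMul q) fun z => ?_
        show Additive.ofMul ((e 1 z : H) : H ⧸ center H) = Additive.ofMul ((z : H) : H ⧸ center H)
        rw [map_one]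
        rfl
      mul_smul := by
        intro s t x
        refine Quotient.inductionOn (x.toMul)
          (motive := fun q => Additive.ofMul (qa (s * t) q) = Additive.ofMul (qa s (qa t q))) fun z => ?_
        show Additive.ofMul ((e (s * t) z : H) : H ⧸ center H) = Additive.ofMul ((e s (e t z) : H) : H ⧸ center H)
        rw [map_mul]
        rfl
      smul_zero := fun s => congrArg Additive.ofMul (map_one (qa s))
      smul_add := fun s x y => congrArg Additive.ofMul (map_mul (qa s) x.toMul y.toMul) }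
  have hsm : ∀ (s : S) (x : H), s • (Additive.ofMul ((x : H) : H ⧸ center H)) =
      Additive.ofMul ((e s x : H) : H ⧸ center H) := fun s x => rfl
  have hform : ∀ x y : H, form hcl (Additive.ofMul ((x : H) : H ⧸ center H)) (Additive.ofMul ((y : H) : H ⧸ center H)) =
      Additive.ofMul (cm hcl x y) := fun x y => rfl
  have hind : ∀ x : Additive (H ⧸ center H), ∃ y : H, x = Additive.ofMul ((y : H) : H ⧸ center H) := by
    intro x
    obtain ⟨y, hy⟩ := QuotientGroup.mk_surjective (x.toMul)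
    exact ⟨y, congrArg Additive.ofMul hy.symm⟩
  obtain ⟨Y, hY, hYc⟩ := exists_isotropic (S := S) (V := Additive (H ⧸ center H)) (W := Additive (center H)) (p := p)
    (by
      intro x
      obtain ⟨y, rfl⟩ := hind x
      show Additive.ofMul (((y : H) : H ⧸ center H) ^ p) = 0
      have : ((y : H) : H ⧸ center H) ^ p = 1 := by
        rw [← QuotientGroup.mk_pow, QuotientGroup.eq_one_iff]
        exact hpow y
      rw [this]
      rfl) hS (form hcl) (by
      intro x
      obtain ⟨y, rfl⟩ := hind x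
      rw [hform]
      have : cm hcl y y = 1 := Subtype.ext (commutatorElement_self y)
      rw [this]
      rfl) (by
      intro s x y
      obtain ⟨x, rfl⟩ := hind x
      obtain ⟨y, rfl⟩ := hind y
      rw [hsm, hsm, hform, hform]
      congr 1
      apply Subtype.ext
      show ⁅e s x, e s y⁆ = ⁅x, y⁆
      rw [← map_commutatorElement, hez s _ (hcl x y)]) huv huv'
  -- faithful on the quotient
  have hfx : Fx S (⊤ : AddSubgroup (Additive (H ⧸ center H))) = ⊥ := by
    rw [eq_bot_iff]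
    intro s hs
    rw [mem_bot]
    apply he
    rw [map_one]
    ext x
    show e s x = x
    -- `x⁻¹ * e s x` is central
    have h1 : ∀ x : H, ∃ z ∈ center H, e s x = x * z := by
      intro x
      have h2 := hs (Additive.ofMul ((x : H) : H ⧸ center H)) trivial
      rw [hsm] at h2
      have h3 : ((e s x : H) : H ⧸ center H) = (x : H ⧸ center H) := congrArg Additive.toMul h2
      have h4 := QuotientGroup.eq.1 h3.symm
      exact ⟨_, h4, by group⟩
    obtain ⟨z, hz, hxz⟩ := h1 x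
    have h5 : ∀ n : ℕ, e (s ^ n) x = x * z ^ n := by
      intro n
      induction n with
      | zero => simp
      | succ n ih =>
        rw [pow_succ', map_mul, MulAut.mul_apply, ih, map_mul, map_pow, hez s z hz, hxz, pow_succ' z n, mul_assoc]
    have h6 := h5 (orderOf s)
    rw [pow_orderOf_eq_one, map_one, MulAut.one_apply] at h6
    have h7 : z ^ orderOf s = 1 := by
      have : x * z ^ orderOf s = x * 1 := by rw [← h6, mul_one]
      exact mul_left_cancel this
    obtain ⟨k, hk⟩ := hH z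
    have h8 : orderOf z ∣ Nat.gcd (orderOf s) (p ^ k) :=
      Nat.dvd_gcd (orderOf_dvd_of_pow_eq_one h7) (orderOf_dvd_of_pow_eq_one hk)
    have h9 : Nat.Coprime (orderOf s) (p ^ k) := by
      apply Nat.Coprime.pow_right
      refine ((Nat.Prime.coprime_iff_not_dvd hpp.out).2 fun h => hS (h.trans (_root_.orderOf_dvd_natCard s))).symm
    rw [h9, Nat.dvd_one, orderOf_eq_one_iff] at h8
    rw [hxz, h8, mul_one]
  rw [hfx, Subgroup.index_bot] at hYc
  -- the preimage
  let B : Subgroup H := (AddSubgroup.toSubgroup' Y).comap (QuotientGroup.mk' (center H))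
  have hB : ∀ x : H, x ∈ B ↔ Additive.ofMul ((x : H) : H ⧸ center H) ∈ Y := fun x => Iff.rfl
  refine ⟨B, fun x hx y hy => ?_, ?_⟩
  · have h1 := hY _ ((hB x).1 hx) _ ((hB y).1 hy)
    rw [hform] at h1
    have h2 : cm hcl x y = 1 := Additive.ofMul.injective h1
    have h3 : ⁅x, y⁆ = 1 := congrArg Subtype.val h2
    exact commutatorElement_eq_one_iff_mul_comm.1 h3
  · have h1 : Nat.card B = Nat.card (center H) * Nat.card Y := by
      have h2 : center H ≤ B := by
        intro z hz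
        rw [hB]
        have : ((z : H) : H ⧸ center H) = 1 := (QuotientGroup.eq_one_iff z).2 hz
        rw [this]
        exact Y.zero_mem
      have h3 := (center H).card_mul_index
      have h4 : B.index * Nat.card Y = (center H).index := by
        have h5 : B.index = (AddSubgroup.toSubgroup' Y).index :=
          Subgroup.index_comap_of_surjective _ (QuotientGroup.mk'_surjective _)
        have h6 : Nat.card (AddSubgroup.toSubgroup' Y : Subgroup (H ⧸ center H)) = Nat.card Y := rfl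
        rw [h5, ← h6, Subgroup.index_mul_card]
        rfl
      have h7 := B.card_mul_index
      have h8 : B.index ≠ 0 := Subgroup.index_ne_zero_of_finite
      apply Nat.eq_of_mul_eq_mul_right (Nat.pos_of_ne_zero h8)
      rw [h7, ← h3, ← h4]
      ring
    rw [h1, mul_pow]
    exact Nat.mul_le_mul_left _ hYc

end

end Cfsg.Agent.H157.Ab.MixH
end

-- part: H157/Ab/Mix
section
/-!
# The mixture lemma (helper157)

* `mix_C` : `C` a `p`-group, `S` an abelian `p'`-group acting faithfully on `C`, `P ≤ Z(C)` centralised by `S`: an abelian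
  `B ≤ C` with `(|P||S|) ^ v ≤ |B| ^ v |S| ^ (v - u)`;
* `mix` : `G` with `p`-local subgroups of characteristic `p`, `A` abelian, `p ∣ |A|`: an abelian `p`-subgroup `B` and an
  abelian `p'`-subgroup `S ≤ A` with `|A| ^ v ≤ |B| ^ v |S| ^ (v - u)`.
-/

set_option autoImplicit false

namespace Cfsg.Agent.H157.Ab.Mix

open Subgroup
open scoped commutatorElement

variable {G : Type*} [Group G] [Finite G]

/-- an abelian subgroup as a commutative group -/
@[reducible] def commS {G : Type*} [Group G] {S : Subgroup G} (hS : ∀ x ∈ S, ∀ y ∈ S, x * y = y * x) : CommGroup S :=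
  { (inferInstance : Group S) with
    mul_comm := fun a b => Subtype.ext (hS a a.2 b b.2) }

/-- **Mixture in a `p`-group.** -/
theorem mix_C {p : ℕ} [hpp : Fact p.Prime] {C S P : Subgroup G} (hC : IsPGroup p C)
    (hSc : ∀ x ∈ S, ∀ y ∈ S, x * y = y * x) (hSp : ¬ p ∣ Nat.card S) (hSC : S ≤ normalizer (C : Set G))
    (hPC : P ≤ C) (hPz : ∀ x ∈ P, ∀ y ∈ C, x * y = y * x) (hPS : ∀ x ∈ P, ∀ s ∈ S, x * s = s * x)
    (hf : S ⊓ centralizer (C : Set G) = ⊥) {u v : ℕ} (huv : u ≤ v)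
    (huv' : ∀ f, 1 ≤ f → (p ^ f + 1) ^ u ≤ p ^ (f * v)) :
    ∃ B : Subgroup G, B ≤ C ∧ (∀ x ∈ B, ∀ y ∈ B, x * y = y * x) ∧
      (Nat.card P * Nat.card S) ^ v ≤ Nat.card B ^ v * Nat.card S ^ (v - u) := by
  classical
  -- the critical subgroup
  obtain ⟨H, hchar, h1, h2, h3⟩ := S0093.result hC
  let act : S →* MulAut C := (Subgroup.normalizerMonoidHom C).comp (Subgroup.inclusion hSC)
  have hact : ∀ (s : S) (c : C), ((act s c : C) : G) = s * c * (s : G)⁻¹ := fun s c => rfl
  set D : Subgroup G := H.map C.subtype with hD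
  have hDC : D ≤ C := by rintro _ ⟨x, -, rfl⟩; exact x.2
  have hmemD : ∀ x : C, x ∈ H ↔ (x : G) ∈ D := by
    intro x
    constructor
    · exact fun h => ⟨x, h, rfl⟩
    · rintro ⟨y, hy, hyx⟩
      have : y = x := Subtype.ext hyx
      rwa [← this]
  -- `S` normalises `D`
  have hconj : ∀ s ∈ S, ∀ x ∈ D, s * x * s⁻¹ ∈ D := by
    rintro s hs x hx
    have hxC : x ∈ C := hDC hx
    have h4 : (⟨x, hxC⟩ : C) ∈ H := (hmemD ⟨x, hxC⟩).2 hx
    have h5 := hchar.fixed (act ⟨s, hs⟩)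
    have h6 : (⟨x, hxC⟩ : C) ∈ H.comap (act ⟨s, hs⟩).toMonoidHom := by rw [h5]; exact h4
    exact (hmemD _).1 h6
  have hSD : S ≤ normalizer (D : Set G) := by
    intro s hs
    rw [mem_normalizer_iff]
    intro x
    constructor
    · exact hconj s hs x
    · intro h
      have := hconj s⁻¹ (inv_mem hs) _ h
      rw [inv_inv] at this
      have e : s⁻¹ * (s * x * s⁻¹) * s = x := by group
      rwa [e] at this
  have hDp : IsPGroup p D := hC.to_le hDC
  -- faithful on `D`
  have hfD : S ⊓ centralizer (D : Set G) = ⊥ := by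
    rw [eq_bot_iff]
    rintro s ⟨hs, hsc⟩
    have h4 : act ⟨s, hs⟩ = 1 := by
      refine S0121.result hC H hchar h1 h2 h3 (act ⟨s, hs⟩) ?_ ?_
      · have h5 : orderOf (act ⟨s, hs⟩) ∣ Nat.card S := (orderOf_map_dvd act _).trans (_root_.orderOf_dvd_natCard _)
        exact Nat.Coprime.coprime_dvd_left h5 ((Nat.Prime.coprime_iff_not_dvd hpp.out).2 hSp).symm
      · intro x hx
        apply Subtype.ext
        rw [hact]
        show s * (x : G) * s⁻¹ = x
        have h5 : (x : G) * s = s * x := mem_centralizer_iff.1 hsc x ((hmemD x).1 hx)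
        rw [← h5, mul_inv_cancel_right]
    have h5 : s ∈ S ⊓ centralizer (C : Set G) := by
      refine ⟨hs, mem_centralizer_iff.2 fun x hx => ?_⟩
      have h6 : act ⟨s, hs⟩ ⟨x, hx⟩ = ⟨x, hx⟩ := by rw [h4]; rfl
      have h7 : s * x * s⁻¹ = x := congrArg Subtype.val h6
      rw [mul_inv_eq_iff_eq_mul] at h7
      exact h7.symm
    rw [hf] at h5
    exact h5
  -- the centre
  set Z : Subgroup G := D ⊓ centralizer (D : Set G) with hZ
  have hcard : Nat.card (center D) = Nat.card Z := by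
    have h4 : (center D).map D.subtype = Z := by
      ext x
      constructor
      · rintro ⟨y, hy, rfl⟩
        refine ⟨y.2, mem_centralizer_iff.2 fun z hz => ?_⟩
        exact congrArg Subtype.val (mem_center_iff.1 hy ⟨z, hz⟩)
      · rintro ⟨hx, hxc⟩
        refine ⟨⟨x, hx⟩, mem_center_iff.2 fun z => Subtype.ext ?_, rfl⟩
        exact mem_centralizer_iff.1 hxc z z.2
    rw [← h4]
    exact Nat.card_congr (Subgroup.equivMapOfInjective _ _ (Subgroup.subtype_injective _)).toEquiv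
  have hZc : ∀ x ∈ Z, ∀ y ∈ Z, x * y = y * x := fun x hx y hy => mem_centralizer_iff.1 hy.2 x hx.1
  have hSZ : S ≤ normalizer (Z : Set G) := by
    have h4 : ∀ s ∈ S, ∀ x ∈ Z, s * x * s⁻¹ ∈ Z := by
      intro s hs x hx
      refine ⟨hconj s hs x hx.1, mem_centralizer_iff.2 fun d hd => ?_⟩
      have h5 : s⁻¹ * d * s ∈ D := by
        have := hconj s⁻¹ (inv_mem hs) d hd
        rwa [inv_inv] at this
      have h6 := mem_centralizer_iff.1 hx.2 _ h5
      calc d * (s * x * s⁻¹) = s * ((s⁻¹ * d * s) * x) * s⁻¹ := by group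
        _ = s * (x * (s⁻¹ * d * s)) * s⁻¹ := by rw [h6]
        _ = s * x * s⁻¹ * d := by group
    intro s hs
    rw [mem_normalizer_iff]
    intro x
    constructor
    · exact h4 s hs x
    · intro h
      have := h4 s⁻¹ (inv_mem hs) _ h
      rw [inv_inv] at this
      have e : s⁻¹ * (s * x * s⁻¹) * s = x := by group
      rwa [e] at this
  have hcopZ : (Nat.card S).Coprime (Nat.card Z) := by
    obtain ⟨k, hk⟩ := IsPGroup.iff_card.1 (hDp.to_le (inf_le_left : Z ≤ D))
    rw [hk]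
    exact Nat.Coprime.pow_right _ ((Nat.Prime.coprime_iff_not_dvd hpp.out).2 hSp).symm
  have hA := card_mul_le hSc hZc hSZ hcopZ
  have hPZ : P ≤ Z ⊓ centralizer (S : Set G) := by
    intro x hx
    have hxC := hPC hx
    have h4 : (⟨x, hxC⟩ : C) ∈ centralizer (H : Set C) := by
      rw [mem_centralizer_iff]
      intro y _
      exact Subtype.ext (hPz x hx y y.2).symm
    have h5 : x ∈ D := (hmemD ⟨x, hxC⟩).1 (h3 h4)
    refine ⟨⟨h5, mem_centralizer_iff.2 fun d hd => (hPz x hx d (hDC hd)).symm⟩, mem_centralizer_iff.2 fun s hs => ?_⟩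
    exact (hPS x hx s hs).symm
  set S1 : Subgroup G := S ⊓ centralizer (Z : Set G) with hS1
  have hB1 : Nat.card P * Nat.card S ≤ Nat.card Z * Nat.card S1 := by
    refine le_trans ?_ hA
    rw [mul_comm]
    exact Nat.mul_le_mul_left _ (card_le_of_le hPZ)
  -- the class two part
  have hS1D : S1 ≤ normalizer (D : Set G) := inf_le_left.trans hSD
  letI : CommGroup S1 := commS (fun x hx y hy => hSc x hx.1 y hy.1)
  let e : S1 →* MulAut D := (Subgroup.normalizerMonoidHom D).comp (Subgroup.inclusion hS1D)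
  have he : ∀ (s : S1) (c : D), ((e s c : D) : G) = s * c * (s : G)⁻¹ := fun s c => rfl
  have hS1p : ¬ p ∣ Nat.card S1 := fun h => hSp (h.trans (card_dvd_of_le (inf_le_left : S1 ≤ S)))
  obtain ⟨B, hBc, hB⟩ := MixH.mix_H (H := D) (S := S1) (p := p) (by
      intro x y
      rw [mem_center_iff]
      intro z
      have h4 : ⁅(⟨x, hDC x.2⟩ : C), (⟨y, hDC y.2⟩ : C)⁆ ∈ ⁅H, (⊤ : Subgroup C)⁆ :=
        commutator_mem_commutator ((hmemD ⟨x, hDC x.2⟩).2 x.2) trivial
      have h5 := (h2 h4).2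
      have h6 := mem_centralizer_iff.1 h5 ⟨z, hDC z.2⟩ ((hmemD ⟨z, hDC z.2⟩).2 z.2)
      have h7 := congrArg Subtype.val h6
      exact Subtype.ext h7) hDp (by
      intro x
      rw [mem_center_iff]
      intro z
      have hHp : IsPGroup p H := hC.to_subgroup H
      have h4 : (⟨⟨x, hDC x.2⟩, (hmemD ⟨x, hDC x.2⟩).2 x.2⟩ : H) ^ p ∈ frattini H :=
        Lib.FrattiniPGroup.pow_mem_frattini hHp _
      have h5 : ((⟨x, hDC x.2⟩ : C)) ^ p ∈ (frattini H).map H.subtype := ⟨_, h4, rfl⟩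
      have h6 := mem_centralizer_iff.1 (h1 h5) ⟨z, hDC z.2⟩ ((hmemD ⟨z, hDC z.2⟩).2 z.2)
      have h7 := congrArg Subtype.val h6
      exact Subtype.ext h7) hS1p e (by
      rw [injective_iff_map_eq_one]
      intro s hs
      have h4 : (s : G) ∈ S ⊓ centralizer (D : Set G) := by
        refine ⟨s.2.1, mem_centralizer_iff.2 fun d hd => ?_⟩
        have h5 : e s ⟨d, hd⟩ = ⟨d, hd⟩ := by rw [hs]; rfl
        have h6 : (s : G) * d * (s : G)⁻¹ = d := congrArg Subtype.val h5
        rw [mul_inv_eq_iff_eq_mul] at h6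
        exact h6.symm
      rw [hfD] at h4
      exact Subtype.ext (mem_bot.1 h4)) (by
      intro s z hz
      apply Subtype.ext
      rw [he]
      have h4 : (z : G) ∈ Z := ⟨z.2, mem_centralizer_iff.2 fun d hd => congrArg Subtype.val (mem_center_iff.1 hz ⟨d, hd⟩)⟩
      have h5 := mem_centralizer_iff.1 s.2.2 z h4
      rw [← h5, mul_inv_cancel_right]) huv huv'
  refine ⟨B.map D.subtype, ?_, ?_, ?_⟩
  · rintro _ ⟨x, -, rfl⟩
    exact hDC x.2
  · rintro _ ⟨x, hx, rfl⟩ _ ⟨y, hy, rfl⟩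
    exact congrArg Subtype.val (hBc x hx y hy)
  · have h4 : Nat.card (B.map D.subtype) = Nat.card B :=
      Nat.card_congr (Subgroup.equivMapOfInjective _ _ (Subgroup.subtype_injective _)).symm.toEquiv
    rw [h4]
    calc (Nat.card P * Nat.card S) ^ v ≤ (Nat.card Z * Nat.card S1) ^ v := Nat.pow_le_pow_left hB1 v
      _ = (Nat.card (center D) ^ v * Nat.card S1 ^ u) * Nat.card S1 ^ (v - u) := by
          rw [mul_pow, hcard, mul_assoc, ← pow_add, Nat.add_sub_cancel' huv]
      _ ≤ Nat.card B ^ v * Nat.card S ^ (v - u) :=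
          Nat.mul_le_mul hB (Nat.pow_le_pow_left (card_le_of_le (inf_le_left : S1 ≤ S)) _)

/-- **The mixture lemma.** -/
theorem mix {p : ℕ} [hpp : Fact p.Prime] (hG : BpLieP.Big.LocChar p G) {A : Subgroup G}
    (hA : ∀ x ∈ A, ∀ y ∈ A, x * y = y * x) (hpA : p ∣ Nat.card A) {u v : ℕ} (huv : u ≤ v)
    (huv' : ∀ f, 1 ≤ f → (p ^ f + 1) ^ u ≤ p ^ (f * v)) :
    ∃ B S : Subgroup G, (∀ x ∈ B, ∀ y ∈ B, x * y = y * x) ∧ IsPGroup p B ∧ S ≤ A ∧ ¬ p ∣ Nat.card S ∧
      Nat.card A ^ v ≤ Nat.card B ^ v * Nat.card S ^ (v - u) := by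
  classical
  letI : CommGroup A := commS hA
  obtain ⟨P0⟩ : Nonempty (Sylow p A) := inferInstance
  obtain ⟨K, hK⟩ := Subgroup.exists_right_complement'_of_coprime (N := (P0 : Subgroup A)) P0.card_coprime_index
  have hPK : Nat.card P0 * Nat.card K = Nat.card A := hK.card_mul_card
  set P : Subgroup G := (P0 : Subgroup A).map A.subtype with hP
  set S : Subgroup G := K.map A.subtype with hS
  have hPA : P ≤ A := by rintro _ ⟨x, -, rfl⟩; exact x.2
  have hSA : S ≤ A := by rintro _ ⟨x, -, rfl⟩; exact x.2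
  have cP : Nat.card P = Nat.card P0 :=
    Nat.card_congr (Subgroup.equivMapOfInjective _ _ (Subgroup.subtype_injective _)).symm.toEquiv
  have cS : Nat.card S = Nat.card K :=
    Nat.card_congr (Subgroup.equivMapOfInjective _ _ (Subgroup.subtype_injective _)).symm.toEquiv
  have hPp : IsPGroup p P := P0.2.map _
  have hSp : ¬ p ∣ Nat.card S := by
    rw [cS]
    have h1 : (P0 : Subgroup A).index = Nat.card K := hK.symm.index_eq_card
    rw [← h1]
    exact P0.not_dvd_index
  have hP1 : P ≠ ⊥ := by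
    intro h
    have h1 : Nat.card P0 = 1 := by rw [← cP, h, Subgroup.card_bot]
    have h2 := P0.dvd_card_of_dvd_card hpA
    rw [h1] at h2
    exact hpp.out.one_lt.ne' (Nat.dvd_one.1 h2)
  -- the local subgroup
  have hloc := hG P hPp hP1
  set N : Subgroup G := normalizer (P : Set G) with hN
  have hSN : S ≤ N := by
    intro s hs
    rw [hN, mem_normalizer_iff]
    intro x
    constructor
    · intro hx
      rw [hA s (hSA hs) x (hPA hx), mul_inv_cancel_right]; exact hx
    · intro hx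
      have h1 : s⁻¹ * (s * x * s⁻¹) * s = x := by group
      rw [← h1, hA s⁻¹ (inv_mem (hSA hs)) _ (hPA hx), inv_mul_cancel_right]; exact hx
  set Q : Subgroup G := (Cfsg.pCore p N).map N.subtype with hQ
  have hQp : IsPGroup p Q := (Lib.Cores.pCore_isPGroup (G := N) p).map _
  have hPN : P ≤ N := le_normalizer
  have hPQ : P ≤ Q := by
    have h1 : P.subgroupOf N ≤ Cfsg.pCore p N := by
      refine Lib.Cores.le_pCore ?_ ?_
      · exact normal_subgroupOf_of_le_normalizer le_rfl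
      · exact hPp.comap_of_injective _ (Subgroup.subtype_injective _)
    intro x hx
    exact ⟨⟨x, hPN hx⟩, h1 hx, rfl⟩
  have hQn : (Cfsg.pCore p N).Normal := inferInstance
  have hNQ : ∀ n ∈ N, ∀ x ∈ Q, n * x * n⁻¹ ∈ Q := by
    rintro n hn _ ⟨x, hx, rfl⟩
    exact ⟨(⟨n, hn⟩ * x * ⟨n, hn⟩⁻¹ :), (by exact hQn.conj_mem x hx _), rfl⟩
  have hNQ' : N ≤ normalizer (Q : Set G) := by
    intro n hn
    rw [mem_normalizer_iff]
    intro x
    constructor
    · exact hNQ n hn x
    · intro h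
      have := hNQ n⁻¹ (inv_mem hn) _ h
      rw [inv_inv] at this
      have e : n⁻¹ * (n * x * n⁻¹) * n = x := by group
      rwa [e] at this
  -- `S` is faithful on `Q`
  have hSQ : S ⊓ centralizer (Q : Set G) = ⊥ := by
    rw [eq_bot_iff]
    rintro s ⟨hs, hsc⟩
    have h1 : (⟨s, hSN hs⟩ : N) ∈ centralizer (Cfsg.pCore p N : Set N) := by
      rw [mem_centralizer_iff]
      intro x hx
      exact Subtype.ext (mem_centralizer_iff.1 hsc x ⟨x, hx, rfl⟩)
    have h2 := hloc h1
    obtain ⟨k, hk⟩ := (Lib.Cores.pCore_isPGroup (G := N) p) ⟨_, h2⟩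
    have h3 : s ^ p ^ k = 1 := by
      have := congrArg (fun z : Cfsg.pCore p N => ((z : N) : G)) hk
      exact this
    have h4 : orderOf s ∣ Nat.gcd (Nat.card S) (p ^ k) := by
      refine Nat.dvd_gcd ?_ (orderOf_dvd_of_pow_eq_one h3)
      rw [← Subgroup.orderOf_mk s hs]
      exact _root_.orderOf_dvd_natCard _
    have h5 : Nat.Coprime (Nat.card S) (p ^ k) :=
      Nat.Coprime.pow_right _ ((Nat.Prime.coprime_iff_not_dvd hpp.out).2 hSp).symm
    rw [h5, Nat.dvd_one, orderOf_eq_one_iff] at h4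
    rw [h4]
    exact one_mem _
  set C : Subgroup G := Q ⊓ centralizer (P : Set G) with hC
  have hfC : S ⊓ centralizer (C : Set G) = ⊥ := by
    have hSc : Nat.Coprime (Nat.card (S ⊓ centralizer (C : Set G) : Subgroup G)) p :=
      Nat.Coprime.coprime_dvd_left (card_dvd_of_le inf_le_left)
        ((Nat.Prime.coprime_iff_not_dvd hpp.out).2 hSp).symm
    have h1 := Lib.ThompsonPQ.thompson_p_times_q p P (S ⊓ centralizer (C : Set G)) Q hPp hSc hQp
      (by
        intro x hx
        rw [mem_centralizer_iff]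
        rintro s ⟨hs, -⟩
        exact hA s (hSA hs) x (hPA hx))
      ((hPN).trans hNQ') ((inf_le_left.trans hSN).trans hNQ')
      (by
        intro x hx
        rw [mem_centralizer_iff]
        rintro s ⟨-, hs⟩
        exact (mem_centralizer_iff.1 hs x hx).symm)
    rw [eq_bot_iff, ← hSQ]
    exact le_inf inf_le_left h1
  have hSC : S ≤ normalizer (C : Set G) := by
    have h1 : ∀ s ∈ S, ∀ x ∈ C, s * x * s⁻¹ ∈ C := by
      rintro s hs x ⟨hx, hxc⟩
      refine ⟨hNQ s (hSN hs) x hx, mem_centralizer_iff.2 fun y hy => ?_⟩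
      have h2 : y * s = s * y := hA y (hPA hy) s (hSA hs)
      have h3 : y * s⁻¹ = s⁻¹ * y := hA y (hPA hy) s⁻¹ (inv_mem (hSA hs))
      have h4 : y * x = x * y := mem_centralizer_iff.1 hxc y hy
      calc y * (s * x * s⁻¹) = (y * s) * x * s⁻¹ := by group
        _ = s * (y * x) * s⁻¹ := by rw [h2]; group
        _ = s * x * (y * s⁻¹) := by rw [h4]; group
        _ = s * x * s⁻¹ * y := by rw [h3]; group
    intro s hs
    rw [mem_normalizer_iff]
    intro x
    constructor
    · exact h1 s hs x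
    · intro h
      have := h1 s⁻¹ (inv_mem hs) _ h
      rw [inv_inv] at this
      have e : s⁻¹ * (s * x * s⁻¹) * s = x := by group
      rwa [e] at this
  obtain ⟨B, hBC, hBc, hB⟩ := mix_C (p := p) (C := C) (S := S) (P := P) (hQp.to_le inf_le_left)
    (fun x hx y hy => hA x (hSA hx) y (hSA hy)) hSp hSC
    (le_inf hPQ (fun x hx => mem_centralizer_iff.2 fun y hy => hA y (hPA hy) x (hPA hx)))
    (fun x hx y hy => mem_centralizer_iff.1 hy.2 x hx)
    (fun x hx s hs => hA x (hPA hx) s (hSA hs)) hfC huv huv'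
  refine ⟨B, S, hBc, hQp.to_le (hBC.trans inf_le_left), hSA, hSp, ?_⟩
  rw [cP, cS, hPK] at hB
  rw [cS]
  exact hB

end Cfsg.Agent.H157.Ab.Mix
end

-- part: H157/Ab/X1
section
/-!
# `X1` (helper157)

* `x1 : X1`, the mixture lemma in the form of `H157/Ab/Rows.lean`.
-/

set_option autoImplicit false

namespace Cfsg.Agent.H157.Ab

/-- **The mixture lemma.** -/
theorem x1 : X1 := by
  intro G _ _ p _ hG u v huv huv' a s ha hs A hA hpA
  have hA' : ∀ x ∈ A, ∀ y ∈ A, x * y = y * x := fun x hx y hy =>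
    congrArg Subtype.val (hA.is_comm.comm ⟨x, hx⟩ ⟨y, hy⟩)
  obtain ⟨B, S, hBc, hBp, hSA, hSp, h⟩ := Mix.mix hG hA' hpA huv huv'
  have h1 : Nat.card B ≤ a := ha B ⟨⟨fun x y => Subtype.ext (hBc x x.2 y y.2)⟩⟩ hBp
  have h2 : Nat.card S ≤ s := hs S ⟨⟨fun x y => Subtype.ext (hA' x (hSA x.2) y (hSA y.2))⟩⟩ hSp
  exact h.trans (Nat.mul_le_mul (Nat.pow_le_pow_left h1 v) (Nat.pow_le_pow_left h2 _))

end Cfsg.Agent.H157.Ab
end

private theorem dce_787064716555 : _root_.True := by
  try have : _root_.True := by simp only [_root_.Cfsg.Agent.H157.Ab.MixForm.U2.congr_simp]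
  exact _root_.True.intro
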